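import Groth.Agent.Lib.FundIso12.Glue
import Groth.Agent.Lib.CohMop.DualTensor
import Groth.Agent.Lib.CohMop.HomStalkDepth

/-!
# The fundamental local isomorphism with the dual of the determinant of the conormal sheaf
-/

set_option autoImplicit false
set_option linter.style.haveILetI false
set_option linter.unusedSectionVars false
set_option backward.isDefEq.respectTransparency false
set_option backward.isDefEq.respectTransparency.types false
set_option maxHeartbeats 400000

universe u

open CategoryTheory CategoryTheory.Limits AlgebraicGeometry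

namespace Groth.Agent.FundIso12

variable {X P : Scheme.{u}} (ι : X ⟶ P) [IsClosedImmersion ι] [IsLocallyNoetherian P] {r : ℕ} {L : X.Modules}

theorem isInvertible_det (hι : RegImm.IsRegularImmersionOfCodim RegImm.Kind.regular r ι)
    (hL : ExtPow.IsExtPow r (Omega.conormal ι) L) : PicF.IsInvertible L :=
  Wedge2.isInvertible_top (SmImm2.isFinLocFreeOfRank_conormal ι hι) hL

/-- `Ext^r(ι_* O, F) = ι_*(ι^*F ⊗ L^∨)`. -/
theorem nonempty_ext_iso_dual (hι : RegImm.IsRegularImmersionOfCodim RegImm.Kind.regular r ι)
    (hL : ExtPow.IsExtPow r (Omega.conormal ι) L) {F : P.Modules} (hF : Coh.IsQCoh F)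
    [ModSite.HasSheafHom (O := P.sheaf) (opush ι)] [HasInjectiveResolutions (ModSite.Mod P.sheaf)] :
    Nonempty ((Scheme.Modules.pushforward ι).obj
        (CohB1.tensorMod ((Scheme.Modules.pullback ι).obj F) (CohMop.dual L)) ≅
      (ModSite.extSh (O := P.sheaf) (opush ι) r).obj F) := by
  haveI : ModSite.HasSheafHom (O := X.sheaf) L := CohMop.isLeftAdjoint_tenR L
  haveI := CohMop.isIso_dualMap (N := (Scheme.Modules.pullback ι).obj F)
    (M2.isFinLocFree_of_isInvertible (isInvertible_det ι hι hL))
  let I := InjectiveResolution.of (C := P.Modules) F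
  obtain ⟨e⟩ := nonempty_iso I hι hF hL
  let H : P.Modules ⥤ P.Modules := ModSite.sheafHom (O := P.sheaf) (opush ι)
  haveI : H.Additive := ModSite.sheafHom_additive (O := P.sheaf) (opush ι)
  let θ : (ModSite.sheafHom (O := X.sheaf) L : X.Modules ⥤ X.Modules) ≅ CohMop.ihom L :=
    (ModSite.sheafHomAdj (O := X.sheaf) L).rightAdjointUniq (CohMop.ihomAdj L)
  exact ⟨(Scheme.Modules.pushforward ι).mapIso
      (asIso (CohMop.dualMap ((Scheme.Modules.pullback ι).obj F) L) ≪≫ (θ.app _).symm) ≪≫
    e ≪≫ (I.isoRightDerivedObj H r).symm⟩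

end Groth.Agent.FundIso12
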