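import Groth.Agent.Lib.FundIso12.StalkTools
import Groth.Agent.Lib.PP12.AffineOps
import Groth.Agent.Lib.CI2.RImm
import Mathlib.LinearAlgebra.TensorProduct.Quotient
import Mathlib.RingTheory.IsTensorProduct

/-!
# The stalks of a direct image along a closed immersion, and of the unit of the adjunction
-/

set_option autoImplicit false
set_option linter.style.haveILetI false
set_option linter.unusedSectionVars false
set_option backward.isDefEq.respectTransparency false
set_option backward.isDefEq.respectTransparency.types false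

universe u

open CategoryTheory CategoryTheory.Limits AlgebraicGeometry Opposite TopologicalSpace TensorProduct

noncomputable section

namespace Groth.Agent.FundIso12

open Groth.Agent.CohMop (pt nb stFun modCmp ringCmp)

section alg

/-- The kernel of the canonical map to a base change along a surjection. -/
theorem mem_smul_top_of_isBaseChange {A B M N : Type u} [CommRing A] [CommRing B] [Algebra A B] [AddCommGroup M]
    [Module A M] [AddCommGroup N] [Module A N] [Module B N] [IsScalarTower A B N] {g : M →ₗ[A] N}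
    (hg : IsBaseChange B g) (hs : Function.Surjective (algebraMap A B)) {m : M} (hm : g m = 0) :
    m ∈ RingHom.ker (algebraMap A B) • (⊤ : Submodule A M) := by
  have h1 : (1 : B) ⊗ₜ[A] m = 0 := hg.equiv.injective (by rw [hg.equiv_tmul, one_smul, hm, map_zero])
  let e : (A ⧸ RingHom.ker (Algebra.ofId A B)) ≃ₗ[A] B :=
    (Ideal.quotientKerAlgEquivOfSurjective (f := Algebra.ofId A B) hs).toLinearEquiv
  have h2 : Ideal.Quotient.mk (RingHom.ker (Algebra.ofId A B)) 1 ⊗ₜ[A] m = 0 :=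
    (e.rTensor M).injective (by
      rw [LinearEquiv.rTensor_tmul, map_zero]
      exact (congrArg (· ⊗ₜ[A] m) (map_one (Ideal.quotientKerAlgEquivOfSurjective (f := Algebra.ofId A B) hs))).trans h1)
  have h3 := congrArg (TensorProduct.quotTensorEquivQuotSMul M (RingHom.ker (Algebra.ofId A B))) h2
  rw [map_zero, TensorProduct.quotTensorEquivQuotSMul_mk_tmul, one_smul, Submodule.Quotient.mk_eq_zero] at h3
  exact h3

theorem surjective_of_isBaseChange {A B M N : Type u} [CommRing A] [CommRing B] [Algebra A B] [AddCommGroup M]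
    [Module A M] [AddCommGroup N] [Module A N] [Module B N] [IsScalarTower A B N] {g : M →ₗ[A] N}
    (hg : IsBaseChange B g) (hs : Function.Surjective (algebraMap A B)) : Function.Surjective g := by
  intro n
  obtain ⟨w, rfl⟩ := hg.equiv.surjective n
  induction w using TensorProduct.induction_on with
  | zero => exact ⟨0, by rw [map_zero, map_zero]⟩
  | add p q hp hq =>
    obtain ⟨a, ha⟩ := hp; obtain ⟨b, hb⟩ := hq
    exact ⟨a + b, by rw [map_add, map_add, ha, hb]⟩
  | tmul b m =>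
    obtain ⟨a, rfl⟩ := hs b
    exact ⟨a • m, by rw [map_smul, hg.equiv_tmul, algebraMap_smul]⟩

end alg

variable {X P : Scheme.{u}} (ι : X ⟶ P) (y : P)

/-- The direct image of the structure sheaf. -/
abbrev opush : P.Modules := (Scheme.Modules.pushforward ι).obj (Coh.structureModule X)

/-- The unit section. -/
def oneSec (V : P.Opens) : Γ(opush ι, V) := (1 : Γ(X, ι ⁻¹ᵁ V))

theorem oneSec_res {V W : P.Opens} (h : W ≤ V) : M1.mres (opush ι) h (oneSec ι V) = oneSec ι W :=
  map_one (X.presheaf.map ((Opens.map ι.base).map (homOfLE h)).op).hom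

/-- The germ of one. -/
def oneSt : ((stFun y).obj (opush ι) : Type u) := gm y (opush ι) (V := (⊤ : P.Opens)) trivial (oneSec ι ⊤)

theorem oneSt_eq {V : P.Opens} (hy : y ∈ V) : oneSt ι y = gm y (opush ι) hy (oneSec ι V) := by
  rw [← oneSec_res ι (le_top : V ≤ ⊤), gm_res]
  rfl

/-- The stalk of the ideal. -/
def Jst : Ideal (RSt y) := LinearMap.ker (LinearMap.toSpanSingleton (RSt y) ((stFun y).obj (opush ι)) (oneSt ι y))

theorem mem_Jst {a : RSt y} : a ∈ Jst ι y ↔ a • oneSt ι y = 0 := LinearMap.mem_ker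

/-- The germ map on functions. -/
def grHom {V : P.Opens} (hy : y ∈ V) : Γ(P, V) →+* RSt y :=
  (ringCmp y).toRingHom.comp (P.presheaf.germ V y hy).hom

theorem grHom_apply {V : P.Opens} (hy : y ∈ V) (r : Γ(P, V)) : grHom y hy r = gr y hy r := ringCmp_gr y hy r

theorem smul_oneSec {V : P.Opens} (r : Γ(P, V)) :
    (r • oneSec ι V : Γ(opush ι, V)) = ι.app V r := by
  show (ι.app V r : Γ(X, ι ⁻¹ᵁ V)) * 1 = _
  rw [mul_one]

theorem exists_app_eq_zero {a : RSt y} (ha : a ∈ Jst ι y) {V : P.Opens} (hy : y ∈ V) :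
    ∃ (W : P.Opens) (hW : y ∈ W) (_ : W ≤ V) (r : Γ(P, W)), gr y hW r = a ∧ ι.app W r = 0 := by
  obtain ⟨U, hU, r, rfl⟩ := exists_gr y a
  have hUV : y ∈ U ⊓ V := ⟨hU, hy⟩
  rw [mem_Jst, ← gr_res y inf_le_left hUV, oneSt_eq ι y hUV, ← gm_smul,
    ← gm_zero y (M := opush ι) hUV] at ha
  obtain ⟨W, hW, hWU, e⟩ := exists_res_eq y hUV ha
  refine ⟨W, hW, hWU.trans inf_le_right, M1.ores (hWU.trans inf_le_left) r, gr_res y _ hW r, ?_⟩
  rw [M1.mres_smul, oneSec_res, map_zero, smul_oneSec] at e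
  rw [← M1.ores_ores inf_le_left hWU r] at *
  exact e

theorem smul_eq_zero_of_mem_Jst (N : X.Modules) {a : RSt y} (ha : a ∈ Jst ι y)
    (m : ((stFun y).obj ((Scheme.Modules.pushforward ι).obj N) : Type u)) : a • m = 0 := by
  obtain ⟨V, hV, s, rfl⟩ := exists_gm y m
  obtain ⟨W, hW, hWV, r, rfl, hr⟩ := exists_app_eq_zero ι y ha hV
  rw [← gm_res y hWV hW, ← gm_smul]
  refine (congrArg (gm y _ hW) ?_).trans (gm_zero y hW)
  show (ι.app W r) • (show Γ(N, ι ⁻¹ᵁ W) from M1.mres _ hWV s) = 0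
  rw [hr]
  exact zero_smul Γ(X, ι ⁻¹ᵁ W) _

theorem app_eq_zero_mem {V : P.Opens} (hy : y ∈ V) {r : Γ(P, V)} (hr : ι.app V r = 0) : gr y hy r ∈ Jst ι y := by
  rw [mem_Jst, oneSt_eq ι y hy, ← gm_smul, smul_oneSec, hr]
  exact gm_zero y hy

theorem subsingleton_stalk_push [IsClosedImmersion ι] (N : X.Modules) (hy : y ∉ Set.range ι.base) :
    Subsingleton ((stFun y).obj ((Scheme.Modules.pushforward ι).obj N) : Type u) := by
  let W : P.Opens := ⟨(Set.range ι.base)ᶜ, ι.isClosedEmbedding.isClosed_range.isOpen_compl⟩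
  refine subsingleton_of_forall_eq 0 fun m => ?_
  obtain ⟨V, hV, hVW, s, rfl⟩ := exists_gm_le y m (show y ∈ W from hy)
  refine (congrArg (gm y _ hV) ?_).trans (gm_zero y hV)
  exact RH26.section_ext' N (U := ι ⁻¹ᵁ V) fun x hx => absurd ⟨x, rfl⟩ (hVW hx)

theorem Jst_eq_top [IsClosedImmersion ι] (hy : y ∉ Set.range ι.base) : Jst ι y = ⊤ := by
  haveI := subsingleton_stalk_push ι y (Coh.structureModule X) hy
  exact eq_top_iff.2 fun a _ => (mem_Jst ι y).2 (Subsingleton.elim _ _)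

theorem Jst_le_maximal (x : X) [IsLocalRing (RSt (ι.base x))] :
    Jst ι (ι.base x) ≤ IsLocalRing.maximalIdeal (RSt (ι.base x)) := by
  refine IsLocalRing.le_maximalIdeal fun h => ?_
  obtain ⟨W, hW, -, r, hr, e⟩ := exists_app_eq_zero ι _ ((Ideal.eq_top_iff_one _).1 h) (V := (⊤ : P.Opens)) trivial
  rw [← ringCmp_gr] at hr
  have h1 : P.presheaf.germ W (ι.base x) hW r = 1 := (ringCmp (ι.base x)).injective (hr.trans (map_one _).symm)
  have h2 := congrArg (ι.stalkMap x) h1
  rw [Scheme.Hom.germ_stalkMap_apply, e, map_zero, map_one] at h2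
  exact zero_ne_one h2

variable [IsClosedImmersion ι]

/-- On an affine open the stalk of the ideal is generated by the kernel on sections. -/
theorem Jst_eq_map {U : P.Opens} (hU : IsAffineOpen U) (hy : y ∈ U) :
    Jst ι y = (RingHom.ker (ι.app U).hom).map (grHom y hy) := by
  refine le_antisymm (fun a ha => ?_) (Ideal.map_le_iff_le_comap.2 fun r hr => ?_)
  · obtain ⟨W, hW, hWU, r, rfl, hr⟩ := exists_app_eq_zero ι y ha hy
    obtain ⟨W', hW', hyW', hW'W⟩ := exists_isAffineOpen_mem_and_subset (U := W) hW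
    have hW'W : W' ≤ W := hW'W
    have h0 : ι.app W' (M1.ores hW'W r) = 0 := by
      show (P.presheaf.map (homOfLE hW'W).op ≫ ι.app W') r = 0
      rw [Scheme.Hom.naturality]
      show X.presheaf.map _ (ι.app W r) = 0
      rw [hr, map_zero]
    have h1 : M1.ores hW'W r ∈ ι.ker.ideal ⟨W', hW'⟩ := by
      rw [Scheme.Hom.ker_apply]; exact h0
    rw [← ι.ker.map_ideal (U := ⟨W', hW'⟩) (V := ⟨U, hU⟩) (hW'W.trans hWU), Scheme.Hom.ker_apply] at h1
    rw [← gr_res y hW'W hyW', ← grHom_apply]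
    have h2 := Ideal.mem_map_of_mem (grHom y hyW') h1
    rw [Ideal.map_map] at h2
    convert h2 using 2
    ext b
    rw [grHom_apply, RingHom.comp_apply, grHom_apply]
    exact (gr_res y (hW'W.trans hWU) hyW' b).symm
  · show grHom y hy r ∈ Jst ι y
    rw [grHom_apply]
    exact app_eq_zero_mem ι y hy (RingHom.mem_ker.1 hr)

variable {F : P.Modules} (hF : Coh.IsQCoh F)

/-- The unit. -/
abbrev etaF (F : P.Modules) : F ⟶ (Scheme.Modules.pushforward ι).obj ((Scheme.Modules.pullback ι).obj F) :=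
  PP12.unitTo ι F

include hF in
theorem eta_affine {U : P.Opens} (hU : IsAffineOpen U) :
    Function.Surjective ((etaF ι F).app U) ∧ ∀ s : Γ(F, U), (etaF ι F).app U s = 0 →
      s ∈ RingHom.ker (ι.app U).hom • (⊤ : Submodule Γ(P, U) Γ(F, U)) := by
  obtain ⟨hD, hs⟩ := CI2.surjective_app_of_closed ι hU
  let N := (Scheme.Modules.pullback ι).obj F
  letI : Algebra Γ(P, U) Γ(X, ι ⁻¹ᵁ U) := (ι.appLE U (ι ⁻¹ᵁ U) le_rfl).hom.toAlgebra
  letI : Module Γ(P, U) Γ(N, ι ⁻¹ᵁ U) := PullBC11.baseModule (g := ι) N (U := U) (V := ι ⁻¹ᵁ U) le_rfl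
  haveI : IsScalarTower Γ(P, U) Γ(X, ι ⁻¹ᵁ U) Γ(N, ι ⁻¹ᵁ U) := IsScalarTower.of_algebraMap_smul fun _ _ => rfl
  have he : algebraMap Γ(P, U) Γ(X, ι ⁻¹ᵁ U) = (ι.app U).hom := congrArg CommRingCat.Hom.hom ι.appLE_eq_app
  have hbc : IsBaseChange Γ(X, ι ⁻¹ᵁ U) (PullBC11.sect (PP12.unitTo ι F) (le_refl (ι ⁻¹ᵁ U))) :=
    PP12.isBC_unit ι hF hU hD (le_refl (ι ⁻¹ᵁ U))
  have hsp : ∀ s, PullBC11.sect (PP12.unitTo ι F) (le_refl (ι ⁻¹ᵁ U)) s = (etaF ι F).app U s := fun s =>
    M1.mres_id _ _ _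
  have hsur : Function.Surjective (algebraMap Γ(P, U) Γ(X, ι ⁻¹ᵁ U)) := by rw [he]; exact hs
  refine ⟨fun t => ?_, fun s h => ?_⟩
  · obtain ⟨s, hs'⟩ := surjective_of_isBaseChange hbc hsur t
    exact ⟨s, (hsp s).symm.trans hs'⟩
  · rw [← he]
    exact mem_smul_top_of_isBaseChange hbc hsur ((hsp s).trans h)

include hF in
theorem surjective_etaF : Function.Surjective ((stFun y).map (etaF ι F)).hom := by
  intro m
  obtain ⟨V, hV, t, rfl⟩ := exists_gm y m
  obtain ⟨W, hW, hyW, hWV⟩ := exists_isAffineOpen_mem_and_subset (U := V) hV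
  obtain ⟨s, hs⟩ := (eta_affine ι hF hW).1 (M1.mres _ hWV t)
  exact ⟨gm y F hyW s, by rw [map_gm, hs, gm_res]⟩

include hF in
theorem etaF_eq_zero_iff {a : ((stFun y).obj F : Type u)} :
    ((stFun y).map (etaF ι F)).hom a = 0 ↔ a ∈ Jst ι y • (⊤ : Submodule (RSt y) ((stFun y).obj F)) := by
  constructor
  · intro h
    obtain ⟨V, hV, s, rfl⟩ := exists_gm y a
    rw [map_gm, ← gm_zero y (M := (Scheme.Modules.pushforward ι).obj ((Scheme.Modules.pullback ι).obj F)) hV] at h
    obtain ⟨W, hW, hWV, e⟩ := exists_res_eq y hV h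
    obtain ⟨W', hW', hyW', hW'W⟩ := exists_isAffineOpen_mem_and_subset (U := W) hW
    have hW'W : W' ≤ W := hW'W
    have h0 : (etaF ι F).app W' (M1.mres F (hW'W.trans hWV) s) = 0 := by
      rw [M1.app_mres, ← M1.mres_mres _ hWV hW'W, e, map_zero, map_zero]
    rw [← gm_res y (hW'W.trans hWV) hyW', Jst_eq_map ι y hW' hyW']
    refine Submodule.smul_induction_on ((eta_affine ι hF hW').2 _ h0) (fun r hr t _ => ?_) (fun s t hs ht => ?_)
    · rw [gm_smul, ← grHom_apply]
      exact Submodule.smul_mem_smul (Ideal.mem_map_of_mem _ hr) Submodule.mem_top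
    · rw [gm_add]; exact Submodule.add_mem _ hs ht
  · intro h
    refine Submodule.smul_induction_on h (fun r hr t _ => ?_) (fun s t hs ht => ?_)
    · rw [map_smul]; exact smul_eq_zero_of_mem_Jst ι y _ hr _
    · rw [map_add, hs, ht, add_zero]

end Groth.Agent.FundIso12
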