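import Groth.Agent.Lib.DimF18.Basic
import Groth.Agent.Lib.SmDim19.Basic
import Mathlib.AlgebraicGeometry.Morphisms.FiniteType
import Mathlib.Topology.NoetherianSpace
import Mathlib.Topology.JacobsonSpace

/-!
# Smooth schemes over a field are of pure dimension
-/

set_option autoImplicit false
set_option linter.style.haveILetI false
set_option backward.isDefEq.respectTransparency false
set_option backward.isDefEq.respectTransparency.types false

universe u

open CategoryTheory AlgebraicGeometry TopologicalSpace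

namespace Groth.Agent.FundIso12

theorem dim_component_of_smooth {k : Type u} [Field k] {X : Scheme.{u}} (f : X ⟶ Spec (CommRingCat.of k)) (r : ℕ)
    [SmoothOfRelativeDimension r f] [NoetherianSpace X] {Z : Set X} (hZ : Z ∈ irreducibleComponents X) :
    topologicalKrullDim ↥Z = (r : WithBot ℕ∞) := by
  haveI : Smooth f := SmoothOfRelativeDimension.smooth r f
  haveI : JacobsonSpace X := LocallyOfFiniteType.jacobsonSpace f
  have hZc : IsClosed Z := isClosed_of_mem_irreducibleComponents Z hZ
  have hT : IsClosed (⋃₀ (irreducibleComponents X \ {Z})) := by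
    rw [Set.sUnion_eq_biUnion]
    exact (NoetherianSpace.finite_irreducibleComponents.subset Set.sdiff_subset).isClosed_biUnion
      fun W hW => isClosed_of_mem_irreducibleComponents W hW.1
  have hg := hZ.1.isGenericPoint_genericPoint hZc
  have hne : (Z ∩ (⋃₀ (irreducibleComponents X \ {Z}))ᶜ).Nonempty := by
    refine ⟨hZ.1.genericPoint, hg.mem, fun ⟨W, ⟨hW, hWZ⟩, hm⟩ => hWZ (Set.mem_singleton_iff.2 ?_)⟩
    have hle : Z ≤ W := by
      rw [← hg.def]
      exact (closure_minimal (Set.singleton_subset_iff.2 hm) (isClosed_of_mem_irreducibleComponents W hW))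
    exact le_antisymm (hZ.2 hW.1 hle) hle
  obtain ⟨z, hz, hzcl⟩ := nonempty_inter_closedPoints hne (hZc.isLocallyClosed.inter hT.isOpen_compl.isLocallyClosed)
  obtain ⟨hzZ, hzT⟩ := hz
  have hd := SmDim19.ringKrullDim_stalk_of_isClosed (n := r) (f := f) (mem_closedPoints_iff.1 hzcl)
  rw [ringKrullDim_stalk_eq_coheight] at hd
  have hco : Order.coheight z = (r : ℕ∞) := by exact_mod_cast hd
  have h0 : VarDim.sdim f z = 0 := (VarDim.sdim_eq_zero_iff_isClosed f z).2 (mem_closedPoints_iff.1 hzcl)
  rw [VarDim.dim_irreducible_isClosed f hZc hZ.1]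
  have hgz : hZ.1.genericPoint ⤳ z := hg.specializes hzZ
  have h1 := DimF18.sdim_le_add_coheight f hgz
  rw [h0, hco] at h1
  have h1' : VarDim.sdim f hZ.1.genericPoint ≤ r := by
    have : ((VarDim.sdim f hZ.1.genericPoint : ℕ) : ℕ∞) ≤ (r : ℕ∞) := by simpa using h1
    exact_mod_cast this
  obtain ⟨z', hz', hz'd⟩ := DimF18.exists_generization_sdim f hco
  have hz'Z : z' ∈ Z := by
    obtain ⟨W, hW, hW'⟩ : ∃ W ∈ irreducibleComponents X, z' ∈ W :=
      ⟨_, irreducibleComponent_mem_irreducibleComponents z', mem_irreducibleComponent⟩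
    by_cases hWZ : W = Z
    · exact hWZ ▸ hW'
    · exact absurd ⟨W, ⟨hW, hWZ⟩, hz'.mem_closed (isClosed_of_mem_irreducibleComponents W hW) hW'⟩ hzT
  have h2 : r ≤ VarDim.sdim f hZ.1.genericPoint := by
    refine (show r ≤ VarDim.sdim f z' by omega).trans ?_
    by_cases he : hZ.1.genericPoint = z'
    · rw [he]
    · exact (VarDim.sdim_lt_of_specializes f (hg.specializes hz'Z) he).le
  rw [le_antisymm h1' h2]

end Groth.Agent.FundIso12
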