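import Groth.Agent.Lib.FundIso12.Omega
import Groth.Agent.Lib.EnriquesSeveri11.DualSeq
import Groth.Agent.Lib.Wedge2.Exists
import Groth.Agent.Lib.CohMop.ExtZVanish
import Groth.Agent.S7772

/-!
# Top forms of a smooth closed subscheme
-/

set_option autoImplicit false
set_option linter.style.haveILetI false
set_option linter.unusedSectionVars false
set_option backward.isDefEq.respectTransparency false
set_option backward.isDefEq.respectTransparency.types false
set_option maxHeartbeats 400000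

universe u

open CategoryTheory CategoryTheory.Limits AlgebraicGeometry

namespace Groth.Agent.FundIso12

theorem nonempty_cancel_dual {X : Scheme.{u}} (A : X.Modules) {L : X.Modules} (hL : PicF.IsInvertible L) :
    Nonempty (CohB1.tensorMod (CohB1.tensorMod A L) (CohMop.dual L) ≅ A) := by
  obtain ⟨D, -, ⟨t⟩⟩ := M2.exists_inverse hL
  obtain ⟨d⟩ := ES11.nonempty_dual_iso_of_inverse hL t
  exact ⟨M2.tensorIso (Iso.refl _) d ≪≫ M2.tensorAssoc A L D ≪≫ M2.tensorIso (Iso.refl A) t ≪≫ M2.tensorRUnit A⟩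

theorem quasiSeparated_of_isLocallyNoetherian {X S : Scheme.{u}} [IsLocallyNoetherian X] (f : X ⟶ S) :
    QuasiSeparated f := by
  haveI : QuasiSeparatedSpace X := inferInstance
  exact QuasiSeparated.of_quasiSeparatedSpace f

/-- Smooth relative dimensions of a closed subscheme. -/
theorem le_of_smooth_closed {S P X : Scheme.{u}} (g : P ⟶ S) (ι : X ⟶ P) [IsClosedImmersion ι] (n r : ℕ)
    [SmoothOfRelativeDimension n g] [SmoothOfRelativeDimension r (ι ≫ g)] [QuasiSeparated g]
    [QuasiSeparated (ι ≫ g)] [Nonempty X] : r ≤ n := by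
  obtain ⟨T, hT, h1, h2, h3, hC, hX, hY⟩ := SmImm2.exists_conormal_ses g ι n r
  obtain ⟨x⟩ := ‹Nonempty X›
  obtain ⟨e₂⟩ := CurveCoh17.nonempty_stalk_equiv (SmImm2.isFinLocFreeOfRank_pullback hX ι) x
  obtain ⟨e₃⟩ := CurveCoh17.nonempty_stalk_equiv hY x
  haveI := hT.epi_g
  have hs : Function.Surjective (CurveCoh17.stalkLin T.g x) := (M1.epi_iff_stalk T.g).1 inferInstance x
  rw [← h2] at e₂
  rw [← h3] at e₃
  exact le_of_fin_surjective (X.presheaf.stalk x)
    (e₃.toLinearMap.comp ((CurveCoh17.stalkLin T.g x).comp e₂.symm.toLinearMap))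
    (e₃.surjective.comp (hs.comp e₂.symm.surjective))

theorem isZero_of_isEmpty {X : Scheme.{u}} [IsEmpty X] (M : X.Modules) : IsZero M :=
  CohMop.isZero_of_stFun fun x => isEmptyElim x

/-- Top forms of a smooth closed subscheme are `Ext^{n-r}` of the ambient top forms. -/
theorem nonempty_topForms_iso {S P X : Scheme.{u}} [IsLocallyNoetherian S] (g : P ⟶ S) (ι : X ⟶ P)
    [IsClosedImmersion ι] (n r : ℕ) [SmoothOfRelativeDimension n g] [SmoothOfRelativeDimension r (ι ≫ g)]
    (ΩP : P.Modules) (hΩP : ExtPow.IsExtPow n (Omega.sheaf g) ΩP)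
    (ΩX : X.Modules) (hΩX : ExtPow.IsExtPow r (Omega.sheaf (ι ≫ g)) ΩX)
    [ModSite.HasSheafHom (O := P.sheaf) (opush ι)] [HasInjectiveResolutions (ModSite.Mod P.sheaf)] :
    Nonempty ((Scheme.Modules.pushforward ι).obj ΩX ≅ (ModSite.extSh (O := P.sheaf) (opush ι) (n - r)).obj ΩP) := by
  haveI : Smooth g := SmoothOfRelativeDimension.smooth n g
  haveI : IsLocallyNoetherian P := LocallyOfFiniteType.isLocallyNoetherian g
  haveI : IsLocallyNoetherian X := LocallyOfFiniteType.isLocallyNoetherian ι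
  haveI := quasiSeparated_of_isLocallyNoetherian g
  haveI := quasiSeparated_of_isLocallyNoetherian (ι ≫ g)
  rcases isEmpty_or_nonempty X with hX | hX
  · refine ⟨IsZero.iso ((Scheme.Modules.pushforward ι).map_isZero (isZero_of_isEmpty ΩX)) ?_⟩
    have hO : IsZero (Coh.structureModule X) := isZero_of_isEmpty _
    let H : P.Modules ⥤ P.Modules := ModSite.sheafHom (O := P.sheaf) (opush ι)
    haveI : H.Additive := ModSite.sheafHom_additive (O := P.sheaf) (opush ι)
    refine CohMop.isZero_of_stFun fun y => ModuleCat.isZero_of_iff_subsingleton.2 ?_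
    let I := InjectiveResolution.of (C := P.Modules) ΩP
    haveI := subsingleton_tgt (ι := ι) (I := I) (r := n - r) (y := y) (fun h => isEmptyElim h.choose)
    exact @Equiv.subsingleton _ _ (((CohMop.stFun y).mapIso (I.isoRightDerivedObj H (n - r))).toLinearEquiv.toEquiv) this
  have hrn := le_of_smooth_closed g ι n r
  obtain ⟨T, -, -, -, -, hC, hP, -⟩ := SmImm2.exists_conormal_ses g ι n r
  haveI : Coh.IsQCoh (Omega.conormal ι) := M2.isQCoh_of_isFinLocFree (SmImm2.isFinLocFree_of_rank hC)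
  let L := Wedge2.extMod (n - r) (Omega.conormal ι)
  have hL : ExtPow.IsExtPow (n - r) (Omega.conormal ι) L := Wedge2.isExtPow_extMod (n - r) (Omega.conormal ι)
  obtain ⟨hreg, ⟨a⟩⟩ := S7772.result S P X g (ι ≫ g) n r hrn ι rfl ΩP hΩP ΩX hΩX L hL
  have hPq : Coh.IsQCoh ΩP := M2.isQCoh_of_isFinLocFree (Wedge2.isFinLocFree_top hP hΩP)
  obtain ⟨e⟩ := nonempty_ext_iso_dual ι hreg hL hPq
  obtain ⟨b⟩ := nonempty_cancel_dual ΩX (isInvertible_det ι hreg hL)
  exact ⟨(Scheme.Modules.pushforward ι).mapIso (b.symm ≪≫ M2.tensorIso a.symm (Iso.refl _)) ≪≫ e⟩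

end Groth.Agent.FundIso12
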