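import Groth.Agent.Lib.FundIso12.PureDim
import Groth.Agent.S11924
import Groth.Agent.S15517
import Groth.Agent.Lib.VB17.Proper
import Groth.Agent.Lib.ProjDual12.CMDuality
import Groth.Agent.Lib.Omega12.Exists

/-!
# Serre duality data of a smooth projective variety
-/

set_option autoImplicit false
set_option linter.style.haveILetI false
set_option linter.unusedSectionVars false
set_option backward.isDefEq.respectTransparency false
set_option backward.isDefEq.respectTransparency.types false
set_option maxHeartbeats 400000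

universe u

open CategoryTheory CategoryTheory.Limits AlgebraicGeometry

namespace Groth.Agent.FundIso12

variable {k : Type u} [Field k] {n N : ℕ} {X : Scheme.{u}} [X.Over (Spec (CommRingCat.of k))]
  [SmoothOfRelativeDimension n (X ↘ Spec (CommRingCat.of k))]
  (ι : X ⟶ CohB1.ProjSpace N k) [IsClosedImmersion ι]

theorem isProper_of_proj (hι : ι ≫ CohB1.ProjSpace.toSpec N k = X ↘ Spec (CommRingCat.of k)) :
    IsProper (X ↘ Spec (CommRingCat.of k)) := by
  haveI := CMReg18.isProper_projSpace k (n := N)
  rw [← hι]
  infer_instance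

section

variable (k n)

include k n in
theorem isRegular_stalk_of_smooth (x : X) : IsRegularLocalRing (X.presheaf.stalk x) :=
  haveI : Smooth (X ↘ Spec (CommRingCat.of k)) := SmoothOfRelativeDimension.smooth n _
  SmoothReg17.isRegularLocalRing_stalk (X ↘ Spec (CommRingCat.of k)) x

include k n in
theorem isCM_stalk_of_smooth (x : X) : LocCoh.IsCohenMacaulayLocalRing (X.presheaf.stalk x) := by
  haveI := isRegular_stalk_of_smooth k n x
  exact DepthLib.isCohenMacaulayLocalRing_of_isRegularLocalRing

include k in
theorem component_dim [IsNoetherian X] (Z : Set ↥X) (hZ : Z ∈ irreducibleComponents ↥X) :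
    topologicalKrullDim ↥Z = (n : WithBot ℕ∞) :=
  dim_component_of_smooth (X ↘ Spec (CommRingCat.of k)) n hZ

include k in
theorem dim_eq [IsNoetherian X] [Nonempty X] : topologicalKrullDim ↥X = (n : WithBot ℕ∞) := by
  rw [TopDimLib.dim_eq_iSup_components]
  refine le_antisymm (iSup₂_le fun Z hZ => (component_dim k n Z hZ).le) ?_
  obtain ⟨x⟩ := ‹Nonempty X›
  exact le_iSup₂_of_le (irreducibleComponent x) (irreducibleComponent_mem_irreducibleComponents x)
    (component_dim k n _ (irreducibleComponent_mem_irreducibleComponents x)).ge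

end

variable {L : X.Modules} (hL : ExtPow.IsExtPow n (Omega.sheaf (X ↘ Spec (CommRingCat.of k))) L)

include hL in
theorem isInvertible_omega : PicF.IsInvertible L := by
  haveI : Smooth (X ↘ Spec (CommRingCat.of k)) := SmoothOfRelativeDimension.smooth n _
  haveI : IsLocallyNoetherian X := LocallyOfFiniteType.isLocallyNoetherian (X ↘ Spec (CommRingCat.of k))
  haveI := quasiSeparated_of_isLocallyNoetherian (X ↘ Spec (CommRingCat.of k))
  exact Wedge2.isInvertible_top (Omega12.isFinLocFreeOfRank_receptacle_of_smooth
    (f := X ↘ Spec (CommRingCat.of k)) (Omega12.isUniversal_dOmega (f := X ↘ Spec (CommRingCat.of k))) n) hL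

include hL in
/-- `Ext^i(F, ω) = H^{n-i}(F)^∨`. -/
theorem nonempty_ext_omega [HasExt.{u} X.Modules] [Nonempty X]
    (hι : ι ≫ CohB1.ProjSpace.toSpec N k = X ↘ Spec (CommRingCat.of k))
    (F : X.Modules) (hF : Coh.IsCoh F) (i : ℕ) (hi : i ≤ n) :
    Nonempty (Abelian.Ext F L i ≃ₗ[k] Module.Dual k (Coh.HH X F (n - i))) := by
  haveI : IsLocallyNoetherian (CohB1.ProjSpace N k) := CohFound.ProjNum.isLocallyNoetherian_projSpace N k
  haveI := isProper_of_proj ι hι
  haveI : IsNoetherian X := VB17.isNoetherian_of_over (k := k)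
  obtain ⟨t, ht⟩ := S11924.result k N n X ι hι L hL
  refine (S15517.result k N n X ι hι (dim_eq k n) (fun x hx => ⟨isCM_stalk_of_smooth k n x, ?_⟩) L
    (Snapper.isCoh_of_isInvertible (isInvertible_omega hL)) t ht F hF).1 i hi
  exact SmDim19.ringKrullDim_stalk_of_isClosed (n := n) (f := X ↘ Spec (CommRingCat.of k)) hx

end Groth.Agent.FundIso12
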