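import Mathlib.Algebra.Module.LinearMap.Basic
import Mathlib.RingTheory.Ideal.Operations
import Mathlib.RingTheory.LocalRing.MaximalIdeal.Basic
import Mathlib.LinearAlgebra.Finsupp.LinearCombination

/-!
# Zigzags along a regular sequence in a complex of divisible modules

For a complex `M⁰ → M¹ → ⋯` exact in positive degrees and a sequence `f₀, …, f_{r-1}` with each `f_i` surjective on
elements killed by the earlier ones, a cocycle `s` of degree `0` gives a cocycle of degree `r` killed by all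
`f_i`, well defined up to boundaries; this identifies `Z⁰/(f)Z⁰` with the `r`-th cohomology of the killed subcomplex.
-/

set_option autoImplicit false
set_option linter.unusedSectionVars false

universe u v

namespace Groth.Agent.FundIso12

variable {A : Type u} [CommRing A] (M : ℕ → Type v) [∀ q, AddCommGroup (M q)] [∀ q, Module A (M q)]
  (d : ∀ q, M q →ₗ[A] M (q + 1))

/-- Killed by the first `i` members. -/
def Killed (f : ℕ → A) (i : ℕ) {q : ℕ} (x : M q) : Prop := ∀ j, j < i → f j • x = 0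

/-- `y` is a transgression of `s` along `f`. -/
def Link (f : ℕ → A) : (i : ℕ) → M i → M 0 → Prop
  | 0, x, s => x = s
  | i + 1, y, s => ∃ (x t : M i), Link f i x s ∧ Killed M f i t ∧ f i • t = x ∧ d i t = y

/-- Boundaries in the killed subcomplex. -/
def Bd (f : ℕ → A) : (i : ℕ) → M i → Prop
  | 0, x => x = 0
  | i + 1, y => ∃ w : M i, Killed M f (i + 1) w ∧ d i w = y

/-- Each member is surjective on what the earlier ones kill. -/
def Div (f : ℕ → A) (r : ℕ) : Prop :=
  ∀ i, i < r → ∀ (q : ℕ) (x : M q), Killed M f i x → ∃ t, Killed M f i t ∧ f i • t = x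

/-- Exactness in positive degrees. -/
def Exact : Prop := ∀ q (x : M (q + 1)), d (q + 1) x = 0 → ∃ w, d q w = x

variable {M d} {f : ℕ → A}

theorem killed_zero (i : ℕ) {q : ℕ} : Killed M f i (0 : M q) := fun _ _ => smul_zero _

theorem Killed.add {i q : ℕ} {x y : M q} (hx : Killed M f i x) (hy : Killed M f i y) : Killed M f i (x + y) :=
  fun j hj => by rw [smul_add, hx j hj, hy j hj, add_zero]

theorem Killed.sub {i q : ℕ} {x y : M q} (hx : Killed M f i x) (hy : Killed M f i y) : Killed M f i (x - y) :=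
  fun j hj => by rw [smul_sub, hx j hj, hy j hj, sub_zero]

theorem Killed.smul {i q : ℕ} {x : M q} (a : A) (hx : Killed M f i x) : Killed M f i (a • x) :=
  fun j hj => by rw [smul_comm, hx j hj, smul_zero]

theorem Killed.mono {i i' q : ℕ} {x : M q} (hx : Killed M f i x) (h : i' ≤ i) : Killed M f i' x :=
  fun j hj => hx j (hj.trans_le h)

theorem Killed.succ {i q : ℕ} {x : M q} (hx : Killed M f i x) (h : f i • x = 0) : Killed M f (i + 1) x :=
  fun j hj => by
    rcases Nat.lt_succ_iff_lt_or_eq.1 hj with h' | rfl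
    · exact hx j h'
    · exact h

theorem Killed.map {i q : ℕ} {x : M q} (hx : Killed M f i x) : Killed M f i (d q x) :=
  fun j hj => by rw [← map_smul, hx j hj, map_zero]

theorem link_add : ∀ (i : ℕ) {x x' : M i} {s s' : M 0}, Link M d f i x s → Link M d f i x' s' →
    Link M d f i (x + x') (s + s')
  | 0, x, x', s, s', h, h' => congrArg₂ (· + ·) h h'
  | i + 1, _, _, _, _, ⟨x, t, h, ht, hx, hy⟩, ⟨x', t', h', ht', hx', hy'⟩ =>
    ⟨x + x', t + t', link_add i h h', ht.add ht', by rw [smul_add, hx, hx'], by rw [map_add, hy, hy']⟩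

theorem link_smul (a : A) : ∀ (i : ℕ) {x : M i} {s : M 0}, Link M d f i x s → Link M d f i (a • x) (a • s)
  | 0, _, _, h => congrArg (a • ·) h
  | i + 1, _, _, ⟨x, t, h, ht, hx, hy⟩ =>
    ⟨a • x, a • t, link_smul a i h, ht.smul a, by rw [smul_comm, hx], by rw [map_smul, hy]⟩

theorem link_sub (i : ℕ) {x x' : M i} {s s' : M 0} (h : Link M d f i x s) (h' : Link M d f i x' s') :
    Link M d f i (x - x') (s - s') := by
  have := link_add i h (link_smul (-1 : A) i h')
  simpa [sub_eq_add_neg] using this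

variable (hdd : ∀ q (x : M q), d (q + 1) (d q x) = 0)

include hdd in
theorem link_cocycle {s : M 0} (hs : d 0 s = 0) :
    ∀ (i : ℕ) {x : M i}, Link M d f i x s → Killed M f i x ∧ d i x = 0
  | 0, x, h => ⟨fun j hj => absurd hj (by omega), by rw [show x = s from h]; exact hs⟩
  | i + 1, y, ⟨x, t, h, ht, hx, hy⟩ => by
    have hc := link_cocycle hs i h
    refine ⟨hy ▸ ht.map.succ ?_, hy ▸ hdd i t⟩
    rw [← map_smul, hx, hc.2]

include hdd in
theorem exists_link {r : ℕ} (hf : Div M f r) {s : M 0} (hs : d 0 s = 0) :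
    ∀ i, i ≤ r → ∃ x, Link M d f i x s
  | 0, _ => ⟨s, rfl⟩
  | i + 1, hi => by
    obtain ⟨x, hx⟩ := exists_link hf hs i (by omega)
    obtain ⟨t, ht, htx⟩ := hf i (by omega) i x (link_cocycle hdd hs i hx).1
    exact ⟨_, x, t, hx, ht, htx, rfl⟩

include hdd in
/-- Transgressions of zero are boundaries. -/
theorem bd_of_link_zero {r : ℕ} (hf : Div M f r) :
    ∀ i, i ≤ r → ∀ {y : M i}, Link M d f i y 0 → Bd M d f i y
  | 0, _, y, h => h
  | i + 1, hi, _, ⟨x, t, h, ht, hx, hy⟩ => by
    have hb := bd_of_link_zero hf i (by omega) h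
    cases i with
    | zero => exact ⟨t, ht.succ (hx.trans hb), hy⟩
    | succ i =>
      obtain ⟨w, hw, hwx⟩ := hb
      obtain ⟨w', hw', hww'⟩ := hf (i + 1) (by omega) i w hw
      refine ⟨t - d i w', (ht.sub hw'.map).succ ?_, ?_⟩
      · rw [smul_sub, hx, ← map_smul, hww', hwx, sub_self]
      · rw [map_sub, hdd, sub_zero, hy]

include hdd in
theorem bd_sub_of_link {r : ℕ} (hf : Div M f r) {i : ℕ} (hi : i ≤ r) {y y' : M i} {s : M 0}
    (h : Link M d f i y s) (h' : Link M d f i y' s) : Bd M d f i (y - y') :=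
  bd_of_link_zero hdd hf i hi (by simpa using link_sub i h h')

theorem Bd.add : ∀ {i : ℕ} {x y : M i}, Bd M d f i x → Bd M d f i y → Bd M d f i (x + y)
  | 0, _, _, hx, hy => by show _ = 0; rw [hx, hy, add_zero]
  | _ + 1, _, _, ⟨w, hw, hx⟩, ⟨w', hw', hy⟩ => ⟨w + w', hw.add hw', by rw [map_add, hx, hy]⟩

theorem Bd.smul (a : A) : ∀ {i : ℕ} {x : M i}, Bd M d f i x → Bd M d f i (a • x)
  | 0, _, hx => by show _ = 0; rw [hx, smul_zero]
  | _ + 1, _, ⟨w, hw, hx⟩ => ⟨a • w, hw.smul a, by rw [map_smul, hx]⟩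

include hdd in
/-- The killed subcomplex has no cohomology above the number of killing elements. -/
theorem exact_killed (hM : Exact M d) {r : ℕ} (hf : Div M f r) : ∀ i, i ≤ r → ∀ q, i ≤ q →
    ∀ x : M (q + 1), Killed M f i x → d (q + 1) x = 0 → ∃ w, Killed M f i w ∧ d q w = x
  | 0, _, q, _, x, _, hx => by
    obtain ⟨w, hw⟩ := hM q x hx
    exact ⟨w, fun j hj => absurd hj (by omega), hw⟩
  | i + 1, hi, q, hq, x, hk, hx => by
    obtain ⟨t, ht, htx⟩ := exact_killed hM hf i (by omega) q (by omega) x (hk.mono (by omega)) hx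
    obtain ⟨q, rfl⟩ : ∃ q', q = q' + 1 := ⟨q - 1, by omega⟩
    have h0 : d (q + 1) (f i • t) = 0 := by rw [map_smul, htx, hk i (by omega)]
    obtain ⟨w, hw, hwt⟩ := exact_killed hM hf i (by omega) q (by omega) _ (ht.smul _) h0
    obtain ⟨w', hw', hww'⟩ := hf i (by omega) q w hw
    refine ⟨t - d q w', (ht.sub hw'.map).succ ?_, ?_⟩
    · rw [smul_sub, ← map_smul, hww', hwt, sub_self]
    · rw [map_sub, hdd, sub_zero, htx]

include hdd in
/-- Every killed cocycle is a transgression, up to a boundary. -/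
theorem exists_link_eq (hM : Exact M d) {r : ℕ} (hf : Div M f r) :
    ∀ i, i ≤ r → ∀ y : M i, Killed M f i y → d i y = 0 →
      ∃ (s : M 0) (y' : M i), d 0 s = 0 ∧ Link M d f i y' s ∧ Bd M d f i (y - y')
  | 0, _, y, _, hy => ⟨y, y, hy, rfl, show y - y = 0 from sub_self y⟩
  | i + 1, hi, y, hk, hy => by
    obtain ⟨t, ht, hty⟩ := exact_killed hdd hM hf i (by omega) i le_rfl y (hk.mono (by omega)) hy
    have h0 : d i (f i • t) = 0 := by rw [map_smul, hty, hk i (by omega)]
    obtain ⟨s, x', hs, hl, hb⟩ := exists_link_eq hM hf i (by omega) _ (ht.smul _) h0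
    cases i with
    | zero =>
      have hx : f 0 • t = x' := sub_eq_zero.1 hb
      exact ⟨s, y, hs, ⟨x', t, hl, ht, hx, hty⟩, ⟨0, killed_zero _, by rw [map_zero, sub_self]⟩⟩
    | succ i =>
      obtain ⟨w, hw, hwx⟩ := hb
      obtain ⟨w', hw', hww'⟩ := hf (i + 1) (by omega) i w hw
      refine ⟨s, y, hs, ⟨x', t - d i w', hl, ht.sub hw'.map, ?_, ?_⟩, ⟨0, killed_zero _, by rw [map_zero, sub_self]⟩⟩
      · rw [smul_sub, ← map_smul, hww', hwx, sub_sub_cancel]
      · rw [map_sub, hdd, sub_zero, hty]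

/-- The ideal of the first `i` members. -/
def partIdeal (f : ℕ → A) (i : ℕ) : Ideal A := Ideal.span (f '' Set.Iio i)

theorem partIdeal_mono (f : ℕ → A) {i j : ℕ} (h : i ≤ j) : partIdeal f i ≤ partIdeal f j :=
  Ideal.span_mono (Set.image_mono (Set.Iio_subset_Iio h))

theorem mem_partIdeal {i j : ℕ} (h : j < i) : f j ∈ partIdeal f i := Ideal.subset_span ⟨j, h, rfl⟩

theorem Killed.partIdeal_smul {i q : ℕ} {x : M q} (hx : Killed M f i x) {a : A} (ha : a ∈ partIdeal f i) :
    a • x = 0 := by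
  refine Submodule.span_induction (p := fun a _ => a • x = 0) ?_ (zero_smul A x) ?_ ?_ ha
  · rintro _ ⟨j, hj, rfl⟩
    exact hx j hj
  · intro a b _ _ ha hb
    rw [add_smul, ha, hb, add_zero]
  · intro c a _ ha
    rw [smul_eq_mul, mul_smul, ha, smul_zero]

/-- The cocycles divisible by the ideal. -/
def cocycles : Submodule A (M 0) := LinearMap.ker (d 0)

include hdd in
theorem bd_of_mem_smul {r : ℕ} (hf : Div M f r) {s : M 0}
    (hs : s ∈ partIdeal f r • cocycles (d := d)) {y : M r} (h : Link M d f r y s) : Bd M d f r y := by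
  revert y
  refine (Submodule.smul_induction_on
    (p := fun s => d 0 s = 0 ∧ ∀ {y : M r}, Link M d f r y s → Bd M d f r y) hs ?_ ?_).2
  · intro a ha z hz
    refine ⟨by rw [map_smul, show d 0 z = 0 from hz, smul_zero], fun {y} h => ?_⟩
    obtain ⟨yz, hyz⟩ := exists_link hdd hf (show d 0 z = 0 from hz) r le_rfl
    have hk := (link_cocycle hdd (show d 0 z = 0 from hz) r hyz).1
    have h1 := bd_sub_of_link hdd hf le_rfl h (link_smul a r hyz)
    rwa [hk.partIdeal_smul ha, sub_zero] at h1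
  · rintro z z' ⟨hzc, ih⟩ ⟨hzc', ih'⟩
    refine ⟨by rw [map_add, hzc, hzc', add_zero], fun {y} h => ?_⟩
    obtain ⟨yz, hyz⟩ := exists_link hdd hf hzc r le_rfl
    have h2 : Link M d f r (y - yz) z' := by simpa using link_sub r h hyz
    simpa using (ih hyz).add (ih' h2)

include hdd in
theorem mem_smul_of_bd (hM : Exact M d) {r : ℕ} (hf : Div M f r) :
    ∀ i, i ≤ r → ∀ {s : M 0} {y : M i}, d 0 s = 0 → Link M d f i y s → Bd M d f i y →
      s ∈ partIdeal f i • cocycles (d := d)
  | 0, _, s, y, _, h, hb => by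
    rw [← (show y = s from h), show y = 0 from hb]
    exact Submodule.zero_mem _
  | i + 1, hi, s, _, hs, ⟨x, t, h, ht, hx, hy⟩, ⟨w, hw, hwy⟩ => by
    have hz : d i (t - w) = 0 := by rw [map_sub, hy, hwy, sub_self]
    have hzk : Killed M f i (t - w) := ht.sub (hw.mono (by omega))
    obtain ⟨s', z', hs', hl', hb'⟩ := exists_link_eq hdd hM hf i (by omega) _ hzk hz
    have hfx : f i • (t - w) = x := by rw [smul_sub, hx, hw i (by omega), sub_zero]
    have h1 : Link M d f i (x - f i • z') (s - f i • s') := link_sub i h (link_smul (f i) i hl')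
    have h2 : Bd M d f i (x - f i • z') := by
      rw [← hfx, ← smul_sub]
      exact hb'.smul _
    have h3 := mem_smul_of_bd hM hf i (by omega)
      (by rw [map_sub, map_smul, hs, hs', smul_zero, sub_zero]) h1 h2
    rw [← sub_add_cancel s (f i • s')]
    exact Submodule.add_mem _ (Submodule.smul_mono_left (partIdeal_mono f (Nat.le_succ i)) h3)
      (Submodule.smul_mem_smul (mem_partIdeal (Nat.lt_succ_self i)) hs')

/-- Exchange of two consecutive members. -/
def swapAt (f : ℕ → A) (i : ℕ) : ℕ → A := f ∘ Equiv.swap i (i + 1)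

theorem swapAt_of_lt {i j : ℕ} (h : j < i) : swapAt f i j = f j := by
  show f (Equiv.swap i (i + 1) j) = f j
  rw [Equiv.swap_apply_of_ne_of_ne (by omega) (by omega)]

theorem swapAt_left (i : ℕ) : swapAt f i i = f (i + 1) := congrArg f (Equiv.swap_apply_left _ _)

theorem swapAt_right (i : ℕ) : swapAt f i (i + 1) = f i := congrArg f (Equiv.swap_apply_right _ _)

theorem swapAt_of_gt {i j : ℕ} (h : i + 1 < j) : swapAt f i j = f j := by
  show f (Equiv.swap i (i + 1) j) = f j
  rw [Equiv.swap_apply_of_ne_of_ne (by omega) (by omega)]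

theorem killed_swapAt_iff {i j q : ℕ} (h : j ≤ i ∨ i + 2 ≤ j) {x : M q} :
    Killed M (swapAt f i) j x ↔ Killed M f j x := by
  have key : ∀ g : ℕ → A, Killed M g j x → Killed M (swapAt g i) j x := fun g hg l hl => by
    show g (Equiv.swap i (i + 1) l) • x = 0
    refine hg _ ?_
    rw [Equiv.swap_apply_def]
    split_ifs <;> omega
  refine ⟨fun hx => ?_, key f⟩
  have := key _ hx
  rwa [show swapAt (swapAt f i) i = f by funext l; simp [swapAt]] at this

theorem link_swapAt_lo : ∀ {i j : ℕ}, j ≤ i → ∀ {x : M j} {s : M 0},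
    Link M d f j x s → Link M d (swapAt f i) j x s
  | _, 0, _, _, _, h => h
  | i, j + 1, hj, _, _, ⟨x, t, h, ht, hx, hy⟩ =>
    ⟨x, t, link_swapAt_lo (by omega) h, (killed_swapAt_iff (Or.inl (by omega))).2 ht,
      by rw [swapAt_of_lt (by omega)]; exact hx, hy⟩

include hdd in
/-- Exchanging two members changes the sign. -/
theorem exists_link_swapAt {r i : ℕ} (hi : i + 2 ≤ r) (hf : Div M f r) (hf' : Div M (swapAt f i) r) {s : M 0}
    (hs : d 0 s = 0) : ∀ j, i + 2 ≤ j → j ≤ r →
    ∃ y, Link M d f j y s ∧ Link M d (swapAt f i) j (-y) s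
  | 0, h, _ => absurd h (by omega)
  | j + 1, h, hj => by
    rcases Nat.lt_or_ge (i + 2) (j + 1) with hlt | hge
    · obtain ⟨x, hx, hx'⟩ := exists_link_swapAt hi hf hf' hs j (by omega) (by omega)
      obtain ⟨t, ht, htx⟩ := hf j (by omega) j x (link_cocycle hdd hs j hx).1
      refine ⟨d j t, ⟨x, t, hx, ht, htx, rfl⟩, ⟨-x, -t, hx', ?_, ?_, map_neg _ _⟩⟩
      · intro l hl
        rw [smul_neg, ((killed_swapAt_iff (Or.inr (by omega))).2 ht) l hl, neg_zero]
      · rw [swapAt_of_gt (by omega), smul_neg, htx]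
    obtain rfl : j = i + 1 := by omega
    obtain ⟨x, hx⟩ := exists_link hdd hf hs i (by omega)
    have hxc := link_cocycle hdd hs i hx
    obtain ⟨t₀, ht₀, htx⟩ := hf i (by omega) i x hxc.1
    obtain ⟨w, hw', hwt⟩ := hf' i (by omega) i t₀ ((killed_swapAt_iff (Or.inl le_rfl)).2 ht₀)
    have hw : Killed M f i w := (killed_swapAt_iff (Or.inl le_rfl)).1 hw'
    rw [swapAt_left] at hwt
    let t := f (i + 1) • w
    have htt : f i • t = x := by rw [show t = t₀ from hwt, htx]
    let t' := f i • w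
    have htt' : f (i + 1) • t' = x := by
      rw [show f (i + 1) • t' = f i • t from smul_comm _ _ _, htt]
    have hdt' : Killed M (swapAt f i) (i + 1) (d i t') :=
      Killed.succ (((killed_swapAt_iff (Or.inl le_rfl)).2 (hw.smul _)).map)
        (by rw [swapAt_left, ← map_smul, htt', hxc.2])
    obtain ⟨t₂', ht₂', h₂'⟩ := hf' (i + 1) (by omega) (i + 1) _ hdt'
    rw [swapAt_right] at h₂'
    have hy' : f (i + 1) • t₂' = 0 := by
      have := ht₂' i (by omega)
      rwa [swapAt_left] at this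
    have hk : Killed M f (i + 1) (d i w - t₂') :=
      (hw.map.sub ((killed_swapAt_iff (Or.inl le_rfl)).1 (ht₂'.mono (by omega)))).succ
        (by rw [smul_sub, ← map_smul, h₂', sub_self])
    refine ⟨-d (i + 1) t₂', ⟨d i t, d i w - t₂', ⟨x, t, hx, hw.smul _, htt, rfl⟩, hk, ?_, ?_⟩,
      ⟨d i t', t₂', ⟨x, t', link_swapAt_lo le_rfl hx, (killed_swapAt_iff (Or.inl le_rfl)).2 (hw.smul _),
        by rw [swapAt_left]; exact htt', rfl⟩, ht₂', by rw [swapAt_right]; exact h₂', by rw [neg_neg]⟩⟩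
    · rw [smul_sub, hy', sub_zero, ← map_smul]
    · rw [map_sub, hdd, zero_sub]

/-- Replacing the last member. -/
theorem link_update {r : ℕ} {u : Aˣ} {a : A} (ha : a ∈ partIdeal f r) {y : M (r + 1)} {s : M 0}
    (h : Link M d f (r + 1) y s) :
    Link M d (Function.update f r ((u : A) * f r + a)) (r + 1) (((u⁻¹ : Aˣ) : A) • y) s := by
  obtain ⟨x, t, hl, ht, hx, hy⟩ := h
  have hcongr : ∀ j, j ≤ r → ∀ {x : M j}, Link M d f j x s →
      Link M d (Function.update f r ((u : A) * f r + a)) j x s := by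
    intro j
    induction j with
    | zero => exact fun _ _ h => h
    | succ j ih =>
      rintro hj _ ⟨x', t', hl', ht', hx', hy'⟩
      refine ⟨x', t', ih (by omega) hl', fun l hl => ?_, ?_, hy'⟩
      · rw [Function.update_of_ne (by omega)]; exact ht' l hl
      · rw [Function.update_of_ne (by omega)]; exact hx'
  refine ⟨x, ((u⁻¹ : Aˣ) : A) • t, hcongr r le_rfl hl, fun l hl => ?_, ?_, by rw [map_smul, hy]⟩
  · rw [Function.update_of_ne (by omega)]
    exact ht.smul _ l hl
  · rw [Function.update_self, add_smul, (ht.smul _).partIdeal_smul ha, add_zero, smul_smul,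
      mul_comm (u : A), mul_assoc, Units.mul_inv, mul_one, hx]

end Groth.Agent.FundIso12
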