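import Groth.Agent.Lib.FundIso12.Reg
import Mathlib.LinearAlgebra.Matrix.Determinant.Basic
import Mathlib.LinearAlgebra.Matrix.Block
import Mathlib.LinearAlgebra.Determinant
import Mathlib.LinearAlgebra.StdBasis

/-!
# Transgressions along two regular sequences of generators differ by the determinant
-/

set_option autoImplicit false
set_option linter.unusedSectionVars false

universe u v w

open Matrix IsLocalRing

namespace Groth.Agent.FundIso12

variable {A : Type u} [CommRing A] {M : ℕ → Type v} [∀ q, AddCommGroup (M q)] [∀ q, Module A (M q)]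
  {d : ∀ q, M q →ₗ[A] M (q + 1)} {f g : ℕ → A}

theorem killed_iff {i q : ℕ} {x : M q} : Killed M f i x ↔ ∀ a ∈ partIdeal f i, a • x = 0 :=
  ⟨fun h _ ha => h.partIdeal_smul ha, fun h _ hj => h _ (mem_partIdeal hj)⟩

theorem bd_congr : ∀ {i : ℕ} {y : M i}, partIdeal f i = partIdeal g i → Bd M d f i y → Bd M d g i y
  | 0, _, _, h => h
  | _ + 1, _, e, ⟨w, hw, hy⟩ => ⟨w, killed_iff.2 (e ▸ killed_iff.1 hw), hy⟩

theorem link_congr : ∀ {i : ℕ} {y : M i} {s : M 0}, (∀ j, j < i → f j = g j) →
    Link M d f i y s → Link M d g i y s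
  | 0, _, _, _, h => h
  | i + 1, _, _, e, ⟨x, t, h, ht, hx, hy⟩ =>
    ⟨x, t, link_congr (fun j hj => e j (by omega)) h, fun j hj => (e j (by omega)) ▸ ht j hj,
      (e i (by omega)) ▸ hx, hy⟩

/-- An alternating map on combinations of a tuple is the determinant times the value at the tuple. -/
theorem map_comb_eq_det {R : Type u} [CommRing R] {N : Type v} [AddCommGroup N] [Module R N] {L : Type w}
    [AddCommGroup L] [Module R L] {r : ℕ} (μ : N [⋀^Fin r]→ₗ[R] L) (C : Matrix (Fin r) (Fin r) R)
    (v : Fin r → N) : μ (fun i => ∑ j, C i j • v j) = C.det • μ v := by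
  classical
  let lc : (Fin r → R) →ₗ[R] N := Fintype.linearCombination R v
  have key : μ.compLinearMap lc = (LinearMap.toSpanSingleton R L (μ v)).compAlternatingMap
      (Pi.basisFun R (Fin r)).det := by
    refine (Pi.basisFun R (Fin r)).ext_alternating fun σ hσ => ?_
    let e : Equiv.Perm (Fin r) := Equiv.ofBijective σ (Finite.injective_iff_bijective.1 hσ)
    show μ (fun i => lc (Pi.basisFun R (Fin r) (σ i))) =
      (Pi.basisFun R (Fin r)).det (fun i => Pi.basisFun R (Fin r) (σ i)) • μ v
    have h1 : (fun i => lc (Pi.basisFun R (Fin r) (σ i))) = v ∘ e := funext fun i => by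
      show Fintype.linearCombination R v (Pi.basisFun R (Fin r) (σ i)) = v (σ i)
      rw [Pi.basisFun_apply, Fintype.linearCombination_apply_single, one_smul]
    have h2 : (fun i => Pi.basisFun R (Fin r) (σ i)) = ⇑(Pi.basisFun R (Fin r)) ∘ e := rfl
    rw [h1, h2, AlternatingMap.map_perm, AlternatingMap.map_perm, (Pi.basisFun R (Fin r)).det_self,
      Units.smul_def, Units.smul_def, smul_assoc, one_smul]
  refine Eq.trans ?_ ((congrArg (fun ν => ν fun i => C i) key).trans ?_)
  · show μ _ = μ fun i => lc (C i)
    simp only [lc, Fintype.linearCombination_apply]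
  · show (Pi.basisFun R (Fin r)).det (fun i => C i) • μ v = _
    rw [Pi.basisFun_det]
    rfl

variable [IsLocalRing A] [IsNoetherianRing A]

theorem exists_det (hdd : ∀ q (x : M q), d (q + 1) (d q x) = 0) {r : ℕ}
    (hdiv : ∀ h : ℕ → A, SeqReg h r → Div M h r) (hf : SeqReg f r) (hg : SeqReg g r)
    (hJ : partIdeal g r = partIdeal f r) (hm : partIdeal f r ≤ maximalIdeal A) :
    ∃ C : Matrix (Fin r) (Fin r) A, (fun i : Fin r => g i) = C *ᵥ (fun j : Fin r => f j) ∧
      ∀ (s : M 0) (z z' : M r), d 0 s = 0 → Link M d f r z s → Link M d g r z' s →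
        Bd M d f r (z - C.det • z') := by
  classical
  let P : (ℕ → A) → Prop := fun h => SeqReg h r ∧ ∃ C : Matrix (Fin r) (Fin r) A,
    (fun i : Fin r => h i) = C *ᵥ (fun j : Fin r => f j) ∧
      ∀ (s : M 0) (z z' : M r), d 0 s = 0 → Link M d f r z s → Link M d h r z' s →
        Bd M d f r (z - C.det • z')
  have hmem : ∀ {h : ℕ → A}, partIdeal h r = partIdeal f r → ∀ j, j < r → h j ∈ maximalIdeal A :=
    fun e j hj => hm (e ▸ mem_partIdeal hj)
  refine (apply_of_gens P ?_ ?_ ?_ rfl hJ (hg.indep (hmem hJ)) ?_).2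
  · rintro h i hi e ⟨hh, C, hC, hCz⟩
    have hh' : SeqReg (swapAt h i) r := hh.swapAt (hmem e) hi
    have e' : partIdeal (swapAt h i) r = partIdeal f r :=
      (partIdeal_comp_swap (by omega) (by omega)).trans e
    let a : Fin r := ⟨i, by omega⟩
    let b : Fin r := ⟨i + 1, by omega⟩
    have hab : a ≠ b := fun h' => by simpa [a, b] using congrArg Fin.val h'
    have hsw : ∀ j : Fin r, ((Equiv.swap a b j : Fin r) : ℕ) = Equiv.swap i (i + 1) (j : ℕ) := fun j => by
      simp only [Equiv.swap_apply_def, a, b, Fin.ext_iff]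
      split_ifs <;> rfl
    refine ⟨hh', C.submatrix (Equiv.swap a b) id, funext fun j => ?_, fun s z z' hs hz hz' => ?_⟩
    · show h (Equiv.swap i (i + 1) j) = _
      rw [← hsw]
      exact congrFun hC (Equiv.swap a b j)
    · obtain ⟨y, hy, hy'⟩ := exists_link_swapAt hdd hi (hdiv h hh) (hdiv _ hh') hs r (by omega) le_rfl
      have h1 := hCz s z y hs hz hy
      have h2 : Bd M d f r (z' - -y) := bd_congr e' (bd_sub_of_link hdd (hdiv _ hh') le_rfl hz' hy')
      have h3 := h1.add (h2.smul C.det)
      rw [Matrix.det_permute, Equiv.Perm.sign_swap hab]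
      simp only [Units.val_neg, Units.val_one, Int.cast_neg, Int.cast_one, neg_mul, one_mul, neg_smul]
      convert h3 using 1
      rw [smul_sub, smul_neg]
      abel
  · rintro h n hn u a ha e ⟨hh, C, hC, hCz⟩
    subst hn
    let h' := Function.update h n ((u : A) * h n + a)
    have hh' : SeqReg h' (n + 1) := hh.update_last u ha
    obtain ⟨b, hb⟩ := mem_partIdeal_iff.1 ha
    let E : Matrix (Fin (n + 1)) (Fin (n + 1)) A := fun i j =>
      if (i : ℕ) = n then (if (j : ℕ) = n then (u : A) else b j) else (if i = j then 1 else 0)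
    have hE : (fun i : Fin (n + 1) => h' i) = E *ᵥ (fun j : Fin (n + 1) => h j) := funext fun i => by
      show Function.update h n ((u : A) * h n + a) i = ∑ j, E i j * h j
      by_cases hi : (i : ℕ) = n
      · rw [hi, Function.update_self, Fin.sum_univ_castSucc, ← hb, add_comm ((u : A) * h n),
          Finset.sum_range (fun j => b j * h j)]
        congr 1
        · refine Finset.sum_congr rfl fun j _ => ?_
          simp only [E, if_pos hi, Fin.val_castSucc, if_neg (Nat.ne_of_lt j.isLt)]
        · simp only [E, if_pos hi, Fin.val_last, if_true]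
      · rw [Function.update_of_ne hi, Finset.sum_eq_single i]
        · simp [E, hi]
        · intro j _ hj; simp [E, hi, Ne.symm hj]
        · intro hu; exact absurd (Finset.mem_univ i) hu
    have hdet : E.det = (u : A) := by
      rw [Matrix.det_of_isLowerTriangular E ?_, Fin.prod_univ_castSucc]
      · have h1 : ∀ j : Fin n, E (Fin.castSucc j) (Fin.castSucc j) = 1 := fun j => by
          simp [E, Nat.ne_of_lt j.isLt]
        simp [h1, E]
      · intro i j hij
        have hlt : (i : ℕ) < (j : ℕ) := hij
        have hjn := j.isLt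
        simp only [E]
        rw [if_neg (by omega), if_neg]
        intro hij'
        rw [hij'] at hlt
        omega
    refine ⟨hh', E * C, ?_, fun s z z' hs hz hz' => ?_⟩
    · rw [← Matrix.mulVec_mulVec, ← hC, ← hE]
    · obtain ⟨y, hy⟩ := exists_link hdd (hdiv h hh) hs (n + 1) le_rfl
      have hy' := link_update (u := u) ha hy
      have e' : partIdeal h' (n + 1) = partIdeal f (n + 1) := by
        refine (le_antisymm (Ideal.span_le.2 ?_) (Ideal.span_le.2 ?_) : partIdeal h' (n + 1) = partIdeal h (n + 1)).trans e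
        · rintro _ ⟨l, hl, rfl⟩
          rcases Nat.lt_succ_iff_lt_or_eq.1 (Set.mem_Iio.1 hl) with hl' | rfl
          · show Function.update h n _ l ∈ _
            rw [Function.update_of_ne (by omega)]
            exact mem_partIdeal (by omega)
          · show Function.update h l _ l ∈ _
            rw [Function.update_self]
            exact Submodule.add_mem _ (Ideal.mul_mem_left _ _ (mem_partIdeal (by omega)))
              (partIdeal_mono h (Nat.le_succ l) ha)
        · have hlow : ∀ l, l < n → h l ∈ partIdeal h' (n + 1) := fun l hl => by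
            have := mem_partIdeal (f := h') (show l < n + 1 by omega)
            rwa [show h' l = h l from Function.update_of_ne (by omega) _ _] at this
          rintro _ ⟨l, hl, rfl⟩
          rcases Nat.lt_succ_iff_lt_or_eq.1 (Set.mem_Iio.1 hl) with hl' | rfl
          · exact hlow l hl'
          · have h1 := mem_partIdeal (f := h') (Nat.lt_succ_self l)
            rw [show h' l = (u : A) * h l + a from Function.update_self _ _ _] at h1
            have h2 : a ∈ partIdeal h' (l + 1) :=
              (Ideal.span_le.2 (by rintro _ ⟨i, hi, rfl⟩; exact hlow i hi) : partIdeal h l ≤ _) ha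
            rw [← u.inv_mul_cancel_left (h l)]
            exact Ideal.mul_mem_left _ _ ((Submodule.add_mem_iff_left _ h2).1 h1)
      have h1 := hCz s z y hs hz hy
      have h2 : Bd M d f (n + 1) (z' - ((u⁻¹ : Aˣ) : A) • y) :=
        bd_congr e' (bd_sub_of_link hdd (hdiv _ hh') le_rfl hz' hy')
      have h3 := h1.add (h2.smul (-((u : A) * C.det)))
      rw [Matrix.det_mul, hdet]
      convert h3 using 1
      rw [smul_sub, smul_smul, neg_smul, mul_comm (u : A), neg_mul, mul_assoc, Units.mul_inv, mul_one, neg_smul,
        sub_neg_eq_add]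
      abel
  · rintro h h' e ⟨hh, C, hC, hCz⟩
    exact ⟨hh.congr e, C, (funext (fun i : Fin r => (e i i.isLt).symm) : (fun i : Fin r => h' i) = fun i : Fin r => h i).trans hC,
      fun s z z' hs hz hz' => hCz s z z' hs hz (link_congr (fun j hj => (e j hj).symm) hz')⟩
  · exact ⟨hf, 1, (Matrix.one_mulVec _).symm, fun s z z' _ hz hz' => by
      rw [Matrix.det_one, one_smul]; exact bd_sub_of_link hdd (hdiv f hf) le_rfl hz hz'⟩

end Groth.Agent.FundIso12
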