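import Groth.Agent.Lib.FundIso12.EvOne
import Groth.Agent.Lib.FundIso12.Det
import Groth.Agent.Lib.SmImm2.ConormalImm
import Groth.Agent.Lib.Wedge2.Top
import Groth.Prelude.Def_RegImm
import Mathlib.RingTheory.Localization.Ideal
import Mathlib.AlgebraicGeometry.AffineScheme

/-!
# Charts of a regular immersion
-/

set_option autoImplicit false
set_option linter.style.haveILetI false
set_option linter.unusedSectionVars false
set_option backward.isDefEq.respectTransparency false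
set_option backward.isDefEq.respectTransparency.types false
set_option maxHeartbeats 400000

universe u

open CategoryTheory CategoryTheory.Limits AlgebraicGeometry Opposite TopologicalSpace exteriorPower Matrix

noncomputable section

namespace Groth.Agent.FundIso12

open Groth.Agent.CohMop (pt nb stFun modCmp ringCmp)
open Groth.Agent.P1Split (IsBas)

section alg

theorem SeqReg.map_ringEquiv {A B : Type u} [CommRing A] [CommRing B] (e : A ≃+* B) {f : ℕ → A} {r : ℕ}
    (hf : SeqReg f r) : SeqReg (fun j => e (f j)) r := by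
  have hm : ∀ i x, x ∈ partIdeal f i ↔ e x ∈ partIdeal (fun j => e (f j)) i := fun i x => by
    rw [show partIdeal (fun j => e (f j)) i = (partIdeal f i).map e.toRingHom by
      rw [partIdeal, partIdeal, Ideal.map_span, Set.image_image]; rfl]
    exact (Ideal.mem_map_of_equiv e _).trans ⟨fun h => by
      obtain ⟨z, hz, he⟩ := h; exact e.injective he ▸ hz, fun h => ⟨x, h, rfl⟩⟩ |>.symm
  intro i hi b hb
  obtain ⟨a, rfl⟩ := e.surjective b
  rw [← map_mul, ← hm] at hb
  exact (hm i a).1 (hf i hi a hb)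

theorem SeqReg.of_isLocalization {R A : Type u} [CommRing R] [CommRing A] [Algebra R A] (S : Submonoid R)
    [IsLocalization S A] {f : ℕ → R} {r : ℕ} (hf : SeqReg f r) : SeqReg (fun j => algebraMap R A (f j)) r := by
  intro i hi a ha
  have he : partIdeal (fun j => algebraMap R A (f j)) i = (partIdeal f i).map (algebraMap R A) := by
    rw [partIdeal, partIdeal, Ideal.map_span, Set.image_image]
  rw [he] at ha ⊢
  obtain ⟨b, s, rfl⟩ := IsLocalization.exists_mk'_eq S a
  have h1 : algebraMap R A (f i * b) ∈ (partIdeal f i).map (algebraMap R A) := by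
    rw [map_mul, ← IsLocalization.mk'_spec A b s, ← mul_assoc]
    exact Ideal.mul_mem_right _ _ ha
  obtain ⟨m, hm, hmem⟩ := (IsLocalization.algebraMap_mem_map_algebraMap_iff S A (partIdeal f i) _).1 h1
  have h2 : m * b ∈ partIdeal f i := hf i hi _ (by rwa [mul_left_comm])
  rw [IsLocalization.mk'_eq_mul_mk'_one]
  refine Ideal.mul_mem_right _ _ ?_
  exact (IsLocalization.algebraMap_mem_map_algebraMap_iff S A (partIdeal f i) _).2 ⟨m, hm, h2⟩

end alg

instance isLocalRing_RSt {X : Scheme.{u}} (y : X) : IsLocalRing (RSt y) := (ringCmp y).isLocalRing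

theorem isNoetherianRing_RSt {X : Scheme.{u}} [IsLocallyNoetherian X] (y : X) : IsNoetherianRing (RSt y) :=
  CohMop.isNoetherianRing_stalkRing y

variable {X P : Scheme.{u}} (ι : X ⟶ P) [IsClosedImmersion ι]

/-- An affine open with a regular sequence generating the ideal. -/
structure Chart (r : ℕ) where
  U : P.Opens
  affine : IsAffineOpen U
  f : ℕ → Γ(P, U)
  ker : RingHom.ker (ι.app U).hom = partIdeal f r
  reg : SeqReg f r
  regList : RingTheory.Sequence.IsWeaklyRegular Γ(P, U) (List.ofFn fun i : Fin r => f i)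
  a : Fin r → Γ(ClSub.idealMod ι.ker, U)
  ha : ∀ i, M2.idealIncl ι.ker (a i) = f i

variable {ι} {r : ℕ}

theorem exists_chart (hι : RegImm.IsRegularImmersionOfCodim RegImm.Kind.regular r ι) (x : X) :
    ∃ c : Chart ι r, ι.base x ∈ c.U := by
  obtain ⟨U, hxU, -, rs, hlen, hreg, hker⟩ := hι.2 x
  subst hlen
  let f : ℕ → Γ(P, U.1) := fun j => rs.getD j 0
  have hf : ∀ (j : ℕ) (hj : j < rs.length), f j = rs[j] := fun j hj => List.getD_eq_getElem _ _ hj
  have hof : (List.ofFn fun i : Fin rs.length => f i) = rs := by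
    refine List.ext_getElem (by simp) fun j h1 h2 => ?_
    rw [List.getElem_ofFn]
    exact hf j h2
  have hk : RingHom.ker (ι.app U.1).hom = partIdeal f rs.length := by
    rw [hker, partIdeal, Ideal.ofList]
    congr 1
    ext a
    simp only [Set.mem_image, Set.mem_Iio, Set.mem_setOf_eq, List.mem_iff_getElem]
    exact ⟨fun ⟨j, hj, e⟩ => ⟨j, hj, (hf j hj).trans e⟩, fun ⟨j, hj, e⟩ => ⟨j, hj, (hf j hj).symm.trans e⟩⟩
  have hmem : ∀ i : Fin rs.length, f i ∈ Set.range (M2.idealIncl ι.ker (U := U.1)) := fun i => by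
    rw [M2.range_idealIncl ι.ker U, Scheme.Hom.ker_apply, hk]
    exact mem_partIdeal i.isLt
  choose a ha using hmem
  exact ⟨⟨U.1, U.2, f, hk, seqReg_of_isWeaklyRegular rs hreg.toIsWeaklyRegular f hf,
    hof.symm ▸ hreg.toIsWeaklyRegular, a, ha⟩, hxU⟩

/-- The generators at a point. -/
def Chart.fhat (c : Chart ι r) {y : P} (hy : y ∈ c.U) (j : ℕ) : RSt y := gr y hy (c.f j)

theorem Chart.partIdeal_fhat (c : Chart ι r) {y : P} (hy : y ∈ c.U) : partIdeal (c.fhat hy) r = Jst ι y := by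
  rw [Jst_eq_map ι y c.affine hy, c.ker, partIdeal, partIdeal, Ideal.map_span, Set.image_image]
  congr 1
  exact Set.image_congr fun j _ => (grHom_apply y hy _).symm

theorem Chart.seqReg_fhat (c : Chart ι r) {y : P} (hy : y ∈ c.U) : SeqReg (c.fhat hy) r := by
  letI : Algebra Γ(P, c.U) (P.presheaf.stalk y) := TopCat.Presheaf.algebra_section_stalk P.presheaf ⟨y, hy⟩
  haveI : IsLocalization.AtPrime (P.presheaf.stalk y) (c.affine.primeIdealOf ⟨y, hy⟩).asIdeal :=
    c.affine.isLocalization_stalk ⟨y, hy⟩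
  have h1 : SeqReg (fun j => algebraMap Γ(P, c.U) (P.presheaf.stalk y) (c.f j)) r :=
    SeqReg.of_isLocalization (c.affine.primeIdealOf ⟨y, hy⟩).asIdeal.primeCompl c.reg
  refine (h1.map_ringEquiv (ringCmp y)).congr fun j _ => ?_
  exact ringCmp_gr y hy _

/-- The conormal classes of the generators. -/
def Chart.nsec (c : Chart ι r) (i : Fin r) : Γ(Omega.conormal ι, ι ⁻¹ᵁ c.U) :=
  (etaF ι (ClSub.idealMod ι.ker)).app c.U (c.a i)

/-- The preimage, as an affine open. -/
def Chart.D (c : Chart ι r) : X.affineOpens := ⟨ι ⁻¹ᵁ c.U, c.affine.preimage ι⟩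

theorem Chart.isBas_nsec (c : Chart ι r) : IsBas (Omega.conormal ι) (ι ⁻¹ᵁ c.U) c.nsec := by
  have hcl : IsClosedImmersion (ι ∣_ c.U) := inferInstance
  refine SmImm2.isBas_conormal' ι hcl c.affine (fun i : Fin r => c.f i)
    (CI2.ex_of_isWeaklyRegular _ _ c.regList) ?_ c.a c.ha
  rw [c.ker, partIdeal]
  congr 1
  ext a
  simp only [Set.mem_image, Set.mem_Iio, Set.mem_range]
  exact ⟨fun ⟨j, hj, e⟩ => ⟨⟨j, hj⟩, e⟩, fun ⟨i, e⟩ => ⟨i, i.isLt, e⟩⟩

variable {L : X.Modules} (φ : ∀ U : X.affineOpens, Γ(L, U.1) ≃ₗ[Γ(X, U.1)] ↥(⋀[Γ(X, U.1)]^r Γ(Omega.conormal ι, U.1)))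
  (hφ : ∀ (U V : X.affineOpens) (h : V.1 ≤ U.1) (e : Fin r → Γ(Omega.conormal ι, U.1)),
    M1.mres L h ((φ U).symm (ιMulti _ r e)) = (φ V).symm (ιMulti _ r fun j => M1.mres (Omega.conormal ι) h (e j)))

/-- The wedge of the generators. -/
def Chart.wedge (c : Chart ι r) : Γ(L, ι ⁻¹ᵁ c.U) := (φ c.D).symm (ιMulti _ r c.nsec)

include hφ in
theorem Chart.isBas_wedge (c : Chart ι r) : IsBas (r := 1) L (ι ⁻¹ᵁ c.U) fun _ => c.wedge φ := by
  let E := Omega.conormal ι
  let l := c.wedge φ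
  have key : ∀ (Q : X.affineOpens) (hQ : Q.1 ≤ ι ⁻¹ᵁ c.U),
      Function.Bijective fun t : Γ(X, Q.1) => t • M1.mres L hQ l := by
    intro Q hQ
    let eQ : Fin r → Γ(E, Q.1) := fun i => M1.mres E hQ (c.nsec i)
    let Φ : (Fin r → Γ(X, Q.1)) ≃ₗ[Γ(X, Q.1)] Γ(E, Q.1) :=
      LinearEquiv.ofBijective (Fintype.linearCombination Γ(X, Q.1) eQ) (c.isBas_nsec Q.1 hQ)
    let b := Module.Basis.ofEquivFun Φ.symm
    have hb : ⇑b = eQ := funext fun i => by
      rw [Module.Basis.coe_ofEquivFun]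
      show Fintype.linearCombination Γ(X, Q.1) eQ (Function.update 0 i 1) = _
      rw [show Function.update (0 : Fin r → Γ(X, Q.1)) i 1 = Pi.single i 1 from rfl,
        Fintype.linearCombination_apply_single, one_smul]
    have h1 := (φ Q).symm.bijective.comp (Wedge2.bijective_smul_top b)
    have h2 : (fun t : Γ(X, Q.1) => t • M1.mres L hQ l) =
        ⇑(φ Q).symm ∘ fun t : Γ(X, Q.1) => t • ιMulti Γ(X, Q.1) r (⇑b) := funext fun t => by
      show t • M1.mres L hQ l = (φ Q).symm (t • _)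
      rw [map_smul, hb, show M1.mres L hQ l = _ from hφ c.D Q hQ _]
      rfl
    rw [h2]
    exact h1
  have one : ∀ (W : X.Opens) (h : W ≤ ι ⁻¹ᵁ c.U) (t : Fin 1 → Γ(X, W)) (Q : X.affineOpens) (hQ : Q.1 ≤ W),
      M1.mres L hQ (∑ i, t i • M1.mres L h l) = M1.ores hQ (t 0) • M1.mres L (hQ.trans h) l := fun W h t Q hQ => by
    rw [Fin.sum_univ_one, M1.mres_smul, M1.mres_mres]
  intro W h
  refine ⟨fun t t' ht => ?_, fun m => ?_⟩
  · have hQ' : ∀ (Q : X.affineOpens) (hQ : Q.1 ≤ W), M1.ores hQ (t 0) = M1.ores hQ (t' 0) := fun Q hQ =>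
      (key Q (hQ.trans h)).1 (by
        show M1.ores hQ (t 0) • M1.mres L (hQ.trans h) l = M1.ores hQ (t' 0) • M1.mres L (hQ.trans h) l
        rw [← one W h t Q hQ, ← one W h t' Q hQ]
        exact congrArg _ ht)
    have h0 : t 0 = t' 0 := Wedge2.eq_of_basis (G := Coh.structureModule X) KoszShH13.isAffBasis_top fun Q _ hQ => hQ' Q hQ
    funext i
    rwa [Subsingleton.elim i 0]
  · choose t ht using fun (Q : X.affineOpens) (hQ : Q.1 ≤ W) => (key Q (hQ.trans h)).2 (M1.mres L hQ m)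
    obtain ⟨s, hs, -⟩ := Wedge2.exists_glue_section KoszShH13.isAffBasis_top (Coh.structureModule X) W
      (fun Q _ hQ => (show Γ(Coh.structureModule X, Q.1) from t Q hQ)) fun Q _ hQ Q' _ hQ' => by
        show M1.ores hQ' (t Q hQ) = t Q' (hQ'.trans hQ)
        refine (key Q' ((hQ'.trans hQ).trans h)).1 ?_
        have := congrArg (M1.mres L hQ') (ht Q hQ)
        simp only [M1.mres_smul, M1.mres_mres] at this
        exact this.trans (ht Q' (hQ'.trans hQ)).symm
    refine ⟨fun _ => (show Γ(X, W) from s), Wedge2.eq_of_basis KoszShH13.isAffBasis_top fun Q _ hQ => ?_⟩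
    rw [one W h _ Q hQ]
    exact (congrArg (fun v : Γ(X, Q.1) => v • M1.mres L (hQ.trans h) l) (hs Q trivial hQ)).trans (ht Q hQ)

theorem exists_gr_forall {κ : Type} [Finite κ] {y : P} {V : P.Opens} (hy : y ∈ V) (a : κ → RSt y) :
    ∃ (W : P.Opens) (hW : y ∈ W) (_ : W ≤ V) (t : κ → Γ(P, W)), ∀ k, gr y hW (t k) = a k := by
  classical
  cases nonempty_fintype κ
  choose U hU t ht using fun k => exists_gr y (a k)
  let W : P.Opens := V ⊓ Finset.univ.inf U
  have hW : y ∈ W := ⟨hy, by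
    rw [Opens.coe_finset_inf]
    exact (Finset.inf_eq_iInf Finset.univ (fun k => (U k : Set P))).symm ▸ Set.mem_iInter₂.2 fun k _ => hU k⟩
  have hle : ∀ k, W ≤ U k := fun k => inf_le_right.trans (Finset.inf_le (Finset.mem_univ k))
  exact ⟨W, hW, inf_le_left, fun k => M1.ores (hle k) (t k), fun k => (gr_res y (hle k) hW _).trans (ht k)⟩

theorem exists_ores_eq {κ : Type} [Finite κ] {y : P} {V : P.Opens} (hy : y ∈ V) (a b : κ → Γ(P, V))
    (h : ∀ k, gr y hy (a k) = gr y hy (b k)) :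
    ∃ (W : P.Opens) (_ : y ∈ W) (hWV : W ≤ V), ∀ k, M1.ores hWV (a k) = M1.ores hWV (b k) := by
  classical
  cases nonempty_fintype κ
  have he : ∀ k, ∃ (W : P.Opens) (_ : y ∈ W) (hWV : W ≤ V), M1.ores hWV (a k) = M1.ores hWV (b k) := fun k => by
    have h1 := h k
    rw [← ringCmp_gr, ← ringCmp_gr] at h1
    obtain ⟨W, hW, i₁, i₂, e⟩ := TopCat.Presheaf.germ_eq P.presheaf y hy hy _ _ ((ringCmp y).injective h1)
    exact ⟨W, hW, i₁.le, e⟩
  choose U hU hUV e using he
  let W : P.Opens := V ⊓ Finset.univ.inf U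
  have hW : y ∈ W := ⟨hy, by
    rw [Opens.coe_finset_inf]
    exact (Finset.inf_eq_iInf Finset.univ (fun k => (U k : Set P))).symm ▸ Set.mem_iInter₂.2 fun k _ => hU k⟩
  refine ⟨W, hW, inf_le_left, fun k => ?_⟩
  have hle : W ≤ U k := inf_le_right.trans (Finset.inf_le (Finset.mem_univ k))
  rw [← M1.ores_ores (hUV k) hle, e k, M1.ores_ores]

theorem app_ores {V W : P.Opens} (h : W ≤ V) (a : Γ(P, V)) :
    ι.app W (M1.ores h a) = M1.ores (show ι ⁻¹ᵁ W ≤ ι ⁻¹ᵁ V from fun _ hx => h hx) (ι.app V a) := by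
  show (P.presheaf.map (homOfLE h).op ≫ ι.app W) a = _
  rw [Scheme.Hom.naturality]
  rfl

include hφ in
/-- Change of chart multiplies the wedge by the determinant. -/
theorem exists_wedge_eq (c c' : Chart ι r) {y : P} (hy : y ∈ c.U) (hy' : y ∈ c'.U)
    (C : Matrix (Fin r) (Fin r) (RSt y))
    (hC : (fun i : Fin r => c'.fhat hy' i) = C *ᵥ (fun j : Fin r => c.fhat hy j)) :
    ∃ (W : P.Opens) (hW : y ∈ W) (h : W ≤ c.U) (h' : W ≤ c'.U) (d : Γ(P, W)), gr y hW d = C.det ∧
      M1.mres L (show ι ⁻¹ᵁ W ≤ ι ⁻¹ᵁ c'.U from fun _ hx => h' hx) (c'.wedge φ) =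
        ι.app W d • M1.mres L (show ι ⁻¹ᵁ W ≤ ι ⁻¹ᵁ c.U from fun _ hx => h hx) (c.wedge φ) := by
  classical
  have hy₀ : y ∈ c.U ⊓ c'.U := ⟨hy, hy'⟩
  obtain ⟨W₁, hW₁, hW₁₀, t, ht⟩ := exists_gr_forall (κ := Fin r × Fin r) hy₀ (fun k => C k.1 k.2)
  have h₁ : W₁ ≤ c.U := hW₁₀.trans inf_le_left
  have h₁' : W₁ ≤ c'.U := hW₁₀.trans inf_le_right
  obtain ⟨W₂, hW₂, hW₂₁, e⟩ := exists_ores_eq (κ := Fin r) hW₁ (fun i => M1.ores h₁' (c'.f i))
    (fun i => ∑ j : Fin r, t (i, j) * M1.ores h₁ (c.f j)) fun i => by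
      refine (gr_res y h₁' hW₁ _).trans ((congrFun hC i).trans ?_)
      show ∑ j : Fin r, C i j * c.fhat hy j = gr y hW₁ (∑ j : Fin r, t (i, j) * M1.ores h₁ (c.f j))
      rw [gr_sum]
      refine Finset.sum_congr rfl fun j _ => ?_
      rw [gr_mul, gr_res, ht]
      rfl
  obtain ⟨W, hW, hyW, hW2⟩ := exists_isAffineOpen_mem_and_subset (U := W₂) hW₂
  have hW2 : W ≤ W₂ := hW2
  have hW1 : W ≤ W₁ := hW2.trans hW₂₁
  have hc : W ≤ c.U := hW1.trans h₁
  have hc' : W ≤ c'.U := hW1.trans h₁'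
  let T : Matrix (Fin r) (Fin r) Γ(P, W) := fun i j => M1.ores hW1 (t (i, j))
  have hTC : T.map (grHom y hyW) = C := by
    ext i j
    show grHom y hyW (T i j) = C i j
    rw [grHom_apply, gr_res, ht]
  let M := ClSub.idealMod ι.ker
  let E := Omega.conormal ι
  have hce : ι ⁻¹ᵁ W ≤ ι ⁻¹ᵁ c.U := fun _ hx => hc hx
  have hce' : ι ⁻¹ᵁ W ≤ ι ⁻¹ᵁ c'.U := fun _ hx => hc' hx
  have hn : ∀ i, M1.mres E hce' (c'.nsec i) = ∑ j, ι.app W (T i j) • M1.mres E hce (c.nsec j) := by
    intro i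
    have h0 : M1.mres M hc' (c'.a i) = ∑ j, T i j • M1.mres M hc (c.a j) := by
      refine M2.idealIncl_injective ι.ker W ?_
      show (ClSub.idealModι ι.ker).app W _ = (ClSub.idealModι ι.ker).app W _
      rw [map_sum, M1.app_mres]
      refine Eq.trans (congrArg (M1.ores hc') (c'.ha i)) ?_
      have h3 := congrArg (M1.ores hW2) (e i)
      simp only [map_sum, map_mul, M1.ores_ores] at h3
      refine h3.trans (Finset.sum_congr rfl fun j _ => ?_)
      rw [Scheme.Modules.Hom.app_smul, M1.app_mres]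
      exact congrArg (M1.ores hW1 (t (i, j)) * ·) (congrArg (M1.ores hc) (c.ha j)).symm
    have h1 := congrArg ((etaF ι M).app W) h0
    rw [M1.app_mres, map_sum] at h1
    refine h1.trans (Finset.sum_congr rfl fun j _ => ?_)
    rw [Scheme.Modules.Hom.app_smul, M1.app_mres]
    rfl
  refine ⟨W, hyW, hc, hc', T.det, ?_, ?_⟩
  · rw [← grHom_apply, RingHom.map_det, RingHom.mapMatrix_apply, hTC]
  · let Q : X.affineOpens := ⟨ι ⁻¹ᵁ W, hW.preimage ι⟩
    have e1 : M1.mres L hce' (c'.wedge φ) = (φ Q).symm (ιMulti _ r fun i => M1.mres E hce' (c'.nsec i)) :=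
      hφ c'.D Q hce' _
    have e2 : M1.mres L hce (c.wedge φ) = (φ Q).symm (ιMulti _ r fun i => M1.mres E hce (c.nsec i)) :=
      hφ c.D Q hce _
    rw [e1, e2, ← map_smul]
    refine congrArg (φ Q).symm ?_
    rw [show (fun i => M1.mres E hce' (c'.nsec i)) =
      fun i => ∑ j, (T.map (ι.app W).hom) i j • M1.mres E hce (c.nsec j) from funext hn, map_comb_eq_det,
      ← RingHom.mapMatrix_apply, ← RingHom.map_det]

end Groth.Agent.FundIso12
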