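import Groth.Agent.Lib.FundIso12.EvOne
import Groth.Agent.Lib.FundIso12.Det
import Mathlib.CategoryTheory.Abelian.Injective.Resolution

/-!
# Local Ext sheaves of a closed subscheme as killed cohomology of an injective resolution, on stalks
-/

set_option autoImplicit false
set_option linter.style.haveILetI false
set_option linter.unusedSectionVars false
set_option backward.isDefEq.respectTransparency false
set_option backward.isDefEq.respectTransparency.types false
set_option maxHeartbeats 400000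

universe u

open CategoryTheory CategoryTheory.Limits AlgebraicGeometry Opposite TopologicalSpace

noncomputable section

namespace Groth.Agent.FundIso12

open Groth.Agent.CohMop (pt nb stFun modCmp ringCmp)

section gen

variable {X P : Scheme.{u}} (y : P) (K : CochainComplex P.Modules ℕ)

theorem exists_stCls_cx {r : ℕ} {c : ((stFun y).obj (K.X r) : Type u)}
    (h : ((stFun y).map (K.d r (r + 1))).hom c = 0) : ∃ t, StCls y (K.sc r) c t := by
  have key : ∀ j, (ComplexShape.up ℕ).next r = j → ((stFun y).map (K.d r j)).hom c = 0 → ∃ t, StCls y (K.sc r) c t := by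
    intro j hj
    subst hj
    exact fun h => exists_stCls y (K.sc r) h
  exact key _ (CochainComplex.next ℕ r) h

theorem stCls_d_next {r : ℕ} {c : ((stFun y).obj (K.X r) : Type u)} {t} (h : StCls y (K.sc r) c t) :
    ((stFun y).map (K.d r (r + 1))).hom c = 0 := by
  have key : ∀ j, (ComplexShape.up ℕ).next r = j → ((stFun y).map (K.d r j)).hom c = 0 := by
    intro j hj
    subst hj
    exact stCls_g y (K.sc r) h
  exact key _ (CochainComplex.next ℕ r)

theorem stCls_d_prev {n : ℕ} (w : ((stFun y).obj (K.X n) : Type u)) :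
    StCls y (K.sc (n + 1)) (((stFun y).map (K.d n (n + 1))).hom w) 0 := by
  have key : ∀ i, (ComplexShape.up ℕ).prev (n + 1) = i → ∀ v : ((stFun y).obj (K.X i) : Type u),
      StCls y (K.sc (n + 1)) (((stFun y).map (K.d i (n + 1))).hom v) 0 := by
    intro i hi
    subst hi
    exact fun v => stCls_f y (K.sc (n + 1)) v
  exact key _ (CochainComplex.prev_nat_succ n) w

theorem exists_d_prev {n : ℕ} {c : ((stFun y).obj (K.X (n + 1)) : Type u)} (h : StCls y (K.sc (n + 1)) c 0) :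
    ∃ w, ((stFun y).map (K.d n (n + 1))).hom w = c := by
  have key : ∀ i, (ComplexShape.up ℕ).prev (n + 1) = i → ∃ w, ((stFun y).map (K.d i (n + 1))).hom w = c := by
    intro i hi
    subst hi
    exact exists_of_stCls_zero y (K.sc (n + 1)) h
  exact key _ (CochainComplex.prev_nat_succ n)

theorem eq_zero_of_stCls_zero {c : ((stFun y).obj (K.X 0) : Type u)} (h : StCls y (K.sc 0) c 0) : c = 0 := by
  have key : ∀ i, (ComplexShape.up ℕ).prev 0 = i → ∃ w, ((stFun y).map (K.d i 0)).hom w = c := by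
    intro i hi
    subst hi
    exact exists_of_stCls_zero y (K.sc 0) h
  obtain ⟨w, rfl⟩ := key _ CochainComplex.prev_nat_zero
  rw [K.shape 0 0 (by simp), Functor.map_zero]
  rfl

end gen

variable {X P : Scheme.{u}} (ι : X ⟶ P) [ModSite.HasSheafHom (O := P.sheaf) (opush ι)]
  {F : P.Modules} (I : InjectiveResolution F) (y : P)

/-- Stalks of the resolution. -/
abbrev Mq (q : ℕ) : Type u := ((stFun y).obj (I.cocomplex.X q) : Type u)

/-- Stalks of the differential. -/
def dq (q : ℕ) : Mq I y q →ₗ[RSt y] Mq I y (q + 1) := ((stFun y).map (I.cocomplex.d q (q + 1))).hom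

/-- The stalk of the augmentation. -/
def aug : ((stFun y).obj F : Type u) →ₗ[RSt y] Mq I y 0 := ((stFun y).map (I.ι.f 0)).hom

theorem dq_dq (q : ℕ) (x : Mq I y q) : dq I y (q + 1) (dq I y q x) = 0 :=
  congrArg (fun φ => φ.hom x) (((stFun y).map_comp _ _).symm.trans
    ((congrArg (stFun y).map (I.cocomplex.d_comp_d q (q + 1) (q + 1 + 1))).trans ((stFun y).map_zero _ _)))

theorem exact_dq : Exact (Mq I y) (dq I y) := fun q x hx =>
  (ShortComplex.moduleCat_exact_iff _).1 ((I.exact_succ q).map (stFun y)) x hx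

theorem injective_aug : Function.Injective (aug I y) :=
  injective_stFun_map y (I.ι.f 0)

theorem dq_aug (a : ((stFun y).obj F : Type u)) : dq I y 0 (aug I y a) = 0 :=
  congrArg (fun φ => φ.hom a) (((stFun y).map_comp _ _).symm.trans
    ((congrArg (stFun y).map I.ι_f_zero_comp_complex_d).trans ((stFun y).map_zero _ _)))

theorem exists_aug {x : Mq I y 0} (hx : dq I y 0 x = 0) : ∃ a, aug I y a = x :=
  (ShortComplex.moduleCat_exact_iff _).1 (I.exact₀.map (stFun y)) x hx

theorem baer_Mq [IsLocallyNoetherian P] (q : ℕ) (N : Ideal (RSt y)) (g : N →ₗ[RSt y] Mq I y q) :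
    ∃ g' : RSt y →ₗ[RSt y] Mq I y q, ∀ (x : RSt y) (hx : x ∈ N), g' x = g ⟨x, hx⟩ := by
  haveI : Injective (ModSite.stalkMod (O := P.sheaf) (pt y) (I.cocomplex.X q)) :=
    CohMop.injective_stalkMod y (I.cocomplex.X q)
  haveI : Injective (ModuleCat.of (RSt y) (Mq I y q)) := CohMop.injective_stalkMod y (I.cocomplex.X q)
  haveI : Module.Injective (RSt y) (Mq I y q) :=
    Module.injective_module_of_injective_object (RSt y) (Mq I y q)
  exact Module.Baer.of_injective inferInstance N g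

theorem div_dq [IsLocallyNoetherian P] {f : ℕ → RSt y} {r : ℕ} (hf : SeqReg f r) : Div (Mq I y) f r :=
  div_of_injective (baer_Mq I y) hf

/-- The killed subcomplex. -/
abbrev kCx : CochainComplex P.Modules ℕ :=
  ((ModSite.sheafHom (O := P.sheaf) (opush ι) : P.Modules ⥤ P.Modules).mapHomologicalComplex (ComplexShape.up ℕ)).obj
    I.cocomplex

/-- Its inclusion. -/
def eK (q : ℕ) : ((stFun y).obj ((kCx ι I).X q) : Type u) →ₗ[RSt y] Mq I y q :=
  ((stFun y).map ((evOne ι).app (I.cocomplex.X q))).hom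

theorem eK_d (i j : ℕ) (w : ((stFun y).obj ((kCx ι I).X i) : Type u)) :
    eK ι I y j (((stFun y).map ((kCx ι I).d i j)).hom w) = ((stFun y).map (I.cocomplex.d i j)).hom (eK ι I y i w) :=
  congrArg (fun φ => φ.hom w) (((stFun y).map_comp _ _).symm.trans
    ((congrArg (stFun y).map ((evOne ι).naturality (I.cocomplex.d i j))).trans ((stFun y).map_comp _ _)))

/-- The class of a killed cocycle. -/
def Cls (r : ℕ) (z : Mq I y r) (t : ((stFun y).obj ((kCx ι I).homology r) : Type u)) : Prop :=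
  ∃ c, eK ι I y r c = z ∧ StCls y ((kCx ι I).sc r) c t

variable [IsClosedImmersion ι] [IsLocallyNoetherian P] {r : ℕ}

theorem cls_unique {z : Mq I y r} {t t'} (h : Cls ι I y r z t) (h' : Cls ι I y r z t') : t = t' := by
  obtain ⟨c, rfl, hc⟩ := h
  obtain ⟨c', he, hc'⟩ := h'
  rw [injective_evOne ι y _ he] at hc'
  exact stCls_unique y _ hc hc'

theorem cls_add {z z' : Mq I y r} {t t'} (h : Cls ι I y r z t) (h' : Cls ι I y r z' t') :
    Cls ι I y r (z + z') (t + t') := by
  obtain ⟨c, rfl, hc⟩ := h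
  obtain ⟨c', rfl, hc'⟩ := h'
  exact ⟨c + c', map_add _ _ _, stCls_add y _ hc hc'⟩

theorem cls_smul (a : RSt y) {z : Mq I y r} {t} (h : Cls ι I y r z t) : Cls ι I y r (a • z) (a • t) := by
  obtain ⟨c, rfl, hc⟩ := h
  exact ⟨a • c, map_smul _ _ _, stCls_smul y _ a hc⟩

theorem exists_cls {z : Mq I y r} (hk : ∀ a ∈ Jst ι y, a • z = 0) (hd : dq I y r z = 0) :
    ∃ t, Cls ι I y r z t := by
  obtain ⟨c, rfl⟩ := exists_evOne ι y _ hk
  obtain ⟨t, ht⟩ := exists_stCls_cx y (kCx ι I) (c := c)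
    (injective_evOne ι y _ ((eK_d ι I y r (r + 1) c).trans (hd.trans (map_zero _).symm)))
  exact ⟨t, c, rfl, ht⟩

theorem cls_cocycle {z : Mq I y r} {t} (h : Cls ι I y r z t) :
    (∀ a ∈ Jst ι y, a • z = 0) ∧ dq I y r z = 0 := by
  obtain ⟨c, rfl, hc⟩ := h
  refine ⟨fun a ha => evOne_killed ι y _ c ha, ?_⟩
  refine (eK_d ι I y r (r + 1) c).symm.trans ?_
  rw [stCls_d_next y (kCx ι I) hc, map_zero]

theorem exists_cls_of (t : ((stFun y).obj ((kCx ι I).homology r) : Type u)) : ∃ z, Cls ι I y r z t := by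
  obtain ⟨c, hc⟩ := stCls_surjective y ((kCx ι I).sc r) t
  exact ⟨_, c, rfl, hc⟩

theorem cls_d (n : ℕ) {w : Mq I y n} (hw : ∀ a ∈ Jst ι y, a • w = 0) : Cls ι I y (n + 1) (dq I y n w) 0 := by
  obtain ⟨v, rfl⟩ := exists_evOne ι y _ hw
  exact ⟨_, eK_d ι I y n (n + 1) v, stCls_d_prev y (kCx ι I) v⟩

theorem cls_of_bd {f : ℕ → RSt y} (hf : partIdeal f r = Jst ι y) {z : Mq I y r}
    (h : Bd (Mq I y) (dq I y) f r z) : Cls ι I y r z 0 := by
  cases r with
  | zero =>
    rw [show z = 0 from h]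
    obtain ⟨t, ht⟩ := exists_cls ι I y (r := 0) (z := 0) (fun a _ => smul_zero a) (map_zero _)
    have := cls_smul ι I y (0 : RSt y) ht
    rwa [zero_smul, zero_smul] at this
  | succ n =>
    obtain ⟨w, hw, rfl⟩ := h
    exact cls_d ι I y n fun a ha => (killed_iff.1 hw) a (hf ▸ ha)

theorem bd_of_cls {f : ℕ → RSt y} (hf : partIdeal f r = Jst ι y) {z : Mq I y r} (h : Cls ι I y r z 0) :
    Bd (Mq I y) (dq I y) f r z := by
  obtain ⟨c, rfl, hc⟩ := h
  cases r with
  | zero =>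
    show _ = 0
    rw [eq_zero_of_stCls_zero y (kCx ι I) hc, map_zero]
  | succ n =>
    obtain ⟨w, rfl⟩ := exists_d_prev y (kCx ι I) hc
    exact ⟨eK ι I y n w, killed_iff.2 fun a ha => evOne_killed ι y _ w (hf ▸ ha), (eK_d ι I y n (n + 1) w).symm⟩

/-- A section killed at a point with zero differential gives a section of homology. -/
theorem exists_cls_sect {V : P.Opens} (c : Γ(I.cocomplex.X r, V)) {x : P} (hx : x ∈ V)
    (hk : ∀ a ∈ Jst ι x, a • gm x _ hx c = 0) (hd : dq I x r (gm x _ hx c) = 0) :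
    ∃ (W : P.Opens) (_ : x ∈ W) (hWV : W ≤ V) (t : Γ((kCx ι I).homology r, W)),
      ∀ (y : P) (hy : y ∈ W), Cls ι I y r (gm y _ (hWV hy) c) (gm y _ hy t) := by
  obtain ⟨t₀, e, he, hcl⟩ := exists_cls ι I x hk hd
  obtain ⟨W₁, hW₁, hW₁V, k, rfl⟩ := exists_gm_le x e hx
  have h2 : gm x _ hW₁ (Scheme.Modules.Hom.app ((evOne ι).app (I.cocomplex.X r)) W₁ k) = gm x _ hW₁ (M1.mres _ hW₁V c) := by
    rw [gm_res]
    exact (map_gm x _ hW₁ k).symm.trans he
  obtain ⟨W₂, hW₂, hW₂₁, e₂⟩ := exists_res_eq x hW₁ h2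
  have h3 : gm x _ hW₁ (((kCx ι I).sc r).g.app W₁ k) = gm x _ hW₁ 0 := by
    rw [gm_zero, ← map_gm]; exact stCls_g x _ hcl
  obtain ⟨W₃, hW₃, hW₃₁, e₃⟩ := exists_res_eq x hW₁ h3
  have hW23 : x ∈ W₂ ⊓ W₃ := ⟨hW₂, hW₃⟩
  have hle : W₂ ⊓ W₃ ≤ W₁ := inf_le_left.trans hW₂₁
  obtain ⟨W, hW, hWW, t, ht⟩ := FundIso12.exists_cls_section ((kCx ι I).sc r) (V := W₂ ⊓ W₃)
    (M1.mres _ hle k) (by
      rw [M1.app_mres, ← M1.mres_mres _ hW₃₁ (inf_le_right : W₂ ⊓ W₃ ≤ W₃), e₃, map_zero, map_zero]) hW23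
  refine ⟨W, hW, hWW.trans (hle.trans hW₁V), t, fun y hy => ⟨_, ?_, ht y hy⟩⟩
  rw [gm_res]
  refine (map_gm y _ (hle (hWW hy)) k).trans ?_
  refine (gm_res y hW₂₁ (inf_le_left (b := W₃) (hWW hy)) _).symm.trans ?_
  refine (congrArg (gm y (I.cocomplex.X r) (inf_le_left (b := W₃) (hWW hy))) e₂).trans ?_
  exact (gm_res y hW₂₁ (inf_le_left (b := W₃) (hWW hy)) _).trans (gm_res y hW₁V _ c)

end Groth.Agent.FundIso12
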