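import Groth.Agent.Lib.FundIso12.Chart

/-!
# Evaluation at the wedge of the generators
-/

set_option autoImplicit false
set_option linter.style.haveILetI false
set_option linter.unusedSectionVars false
set_option backward.isDefEq.respectTransparency false
set_option backward.isDefEq.respectTransparency.types false
set_option maxHeartbeats 400000

universe u

open CategoryTheory CategoryTheory.Limits AlgebraicGeometry Opposite TopologicalSpace exteriorPower Matrix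

noncomputable section

namespace Groth.Agent.FundIso12

open Groth.Agent.CohMop (pt nb stFun modCmp ringCmp)
open Groth.Agent.P1Split (IsBas)
open Groth.Agent.FinPres16 (hval)

variable {X P : Scheme.{u}} {ι : X ⟶ P} [IsClosedImmersion ι] {r : ℕ} {L N : X.Modules}
  [ModSite.HasSheafHom (O := X.sheaf) L]

/-- The module of homomorphisms. -/
abbrev homL (L N : X.Modules) [ModSite.HasSheafHom (O := X.sheaf) L] : X.Modules :=
  (ModSite.sheafHom (O := X.sheaf) L).obj N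

theorem hval_mres {V W : X.Opens} (h : W ≤ V) (z : Γ(homL L N, V)) (l : Γ(L, V)) :
    hval (M := L) (N := N) (M1.mres (homL L N) h z) (M1.mres L h l) = M1.mres N h (hval (M := L) (N := N) z l) :=
  FinPres16.hval_smap (homOfLE h) z l

theorem sect_eq_zero_of_hval {U : X.Opens} {l : Γ(L, U)} (hl : IsBas (r := 1) L U fun _ => l) {V : X.Opens} (h : V ≤ U)
    {z : Γ(homL L N, V)} (hz : hval (M := L) (N := N) z (M1.mres L h l) = 0) : z = 0 := by
  refine FinPres16.hval_ext _ _ fun {W} u s => ?_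
  obtain ⟨c, hc⟩ := (hl W (u.le.trans h)).2 s
  replace hc : (c 0) • M1.mres L (u.le.trans h) l = s := by simpa using hc
  rw [← hc, FinPres16.hval_smul, FinPres16.hval_smul, ← M1.mres_mres L h u.le l]
  refine congrArg (c 0 • ·) ?_
  refine (hval_mres u.le z _).trans ?_
  rw [hz, map_zero, map_zero]
  exact (FinPres16.hval_zero_left _).symm

theorem exists_hval_eq {U : X.Opens} {l : Γ(L, U)} (hl : IsBas (r := 1) L U fun _ => l) {V : X.Opens} (h : V ≤ U)
    (t : Γ(N, V)) : ∃ z : Γ(homL L N, V), hval (M := L) (N := N) z (M1.mres L h l) = t := by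
  let e : PUnit.{u+1} → ModSite.sect (O := X.sheaf) L V := fun _ => M1.mres L h l
  have hg : ModFlat16.Gens (O := X.sheaf) L V e := ModFlat16.gens_mk _ fun {W} k x => by
    refine ⟨⊤, (Opens.grothendieckTopology X).top_mem W, fun W' m _ => ?_⟩
    obtain ⟨c, hc⟩ := (hl W' ((m.le.trans k.le).trans h)).2 (ModFlat16.smap (O := X.sheaf) L m x)
    refine ⟨fun _ => c 0, ?_⟩
    replace hc : (c 0) • M1.mres L ((m.le.trans k.le).trans h) l = ModFlat16.smap (O := X.sheaf) L m x := by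
      simpa using hc
    rw [← hc, Fintype.sum_unique, ← M1.mres_mres L h (m.le.trans k.le) l]
    rfl
  have hr : ModFlat16.Rels (O := X.sheaf) L V e (fun a : PEmpty.{u+1} => a.elim) :=
    ModFlat16.rels_mk _ _ (fun a => a.elim) fun {W} k c hc => by
      refine ⟨⊤, (Opens.grothendieckTopology X).top_mem W, fun W' m _ => ⟨fun a => a.elim, fun i => ?_⟩⟩
      have h1 : (fun _ : Fin 1 => c i) = 0 := (hl W (k.le.trans h)).1 (by
        simp only [Fin.sum_univ_one, Pi.zero_apply, zero_smul]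
        rw [Fintype.sum_unique] at hc
        rw [← M1.mres_mres L h k.le l]
        refine Eq.trans ?_ hc
        rfl)
      rw [show c i = 0 from congrFun h1 0, map_zero, Fintype.sum_empty]
  obtain ⟨ψ, hψ⟩ := FinPres16.exists_hom_of_pres hg hr (fun _ => (t : ModSite.sect (O := X.sheaf) N V)) (fun a => a.elim)
  obtain ⟨z, hz⟩ := FinPres16.exists_hval (M := L) (N := N) ψ
  refine ⟨z, ?_⟩
  have h2 := hψ PUnit.unit (𝟙 V)
  rw [ModFlat16.smap_id, ModFlat16.smap_id] at h2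
  have h1 := hz (𝟙 V) (e PUnit.unit)
  rw [ModFlat16.smap_id] at h1
  exact h1.trans h2

/-- The direct image of the module of homomorphisms. -/
abbrev pG (ι : X ⟶ P) (L N : X.Modules) [ModSite.HasSheafHom (O := X.sheaf) L] : P.Modules :=
  (Scheme.Modules.pushforward ι).obj (homL L N)

/-- The direct image of the target. -/
abbrev pM (ι : X ⟶ P) (N : X.Modules) : P.Modules := (Scheme.Modules.pushforward ι).obj N

variable (φ : ∀ U : X.affineOpens, Γ(L, U.1) ≃ₗ[Γ(X, U.1)] ↥(⋀[Γ(X, U.1)]^r Γ(Omega.conormal ι, U.1)))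

/-- The preimage of a smaller open lies in the chart. -/
theorem Chart.le_pre (c : Chart ι r) {W : P.Opens} (h : W ≤ c.U) : ι ⁻¹ᵁ W ≤ ι ⁻¹ᵁ c.U := fun _ hx => h hx

/-- The value of a germ of homomorphisms at the wedge. -/
def Chart.Ev (c : Chart ι r) (y : P) (g : ((stFun y).obj ((Scheme.Modules.pushforward ι).obj (homL L N)) : Type u))
    (m : ((stFun y).obj ((Scheme.Modules.pushforward ι).obj N) : Type u)) : Prop :=
  ∃ (W : P.Opens) (hW : y ∈ W) (h : W ≤ c.U) (z : Γ(homL L N, ι ⁻¹ᵁ W)),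
    gm y ((Scheme.Modules.pushforward ι).obj (homL L N)) hW z = g ∧
      gm y ((Scheme.Modules.pushforward ι).obj N) hW
        (hval (M := L) (N := N) z (M1.mres L (c.le_pre h) (c.wedge φ))) = m

variable {φ} {c : Chart ι r} {y : P}

theorem ev_sect {W : P.Opens} (hy : y ∈ W) (h : W ≤ c.U) (z : Γ(homL L N, ι ⁻¹ᵁ W)) :
    c.Ev φ y (gm y (pG ι L N) hy z) (gm y (pM ι N) hy (hval (M := L) (N := N) z (M1.mres L (c.le_pre h) (c.wedge φ)))) :=
  ⟨W, hy, h, z, rfl, rfl⟩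

theorem gm_ev_res {W W' : P.Opens} (hy : y ∈ W') (h : W ≤ c.U) (hW' : W' ≤ W) (z : Γ(homL L N, ι ⁻¹ᵁ W)) :
    gm y (pM ι N) hy (hval (M := L) (N := N)
        (M1.mres (homL L N) (show ι ⁻¹ᵁ W' ≤ ι ⁻¹ᵁ W from fun _ hx => hW' hx) z)
        (M1.mres L (c.le_pre (hW'.trans h)) (c.wedge φ))) =
      gm y (pM ι N) (hW' hy) (hval (M := L) (N := N) z (M1.mres L (c.le_pre h) (c.wedge φ))) := by
  rw [← M1.mres_mres L (c.le_pre h) (show ι ⁻¹ᵁ W' ≤ ι ⁻¹ᵁ W from fun _ hx => hW' hx), hval_mres]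
  exact gm_res y hW' hy (M := (pM ι N)) _

theorem ev_unique {g : ((stFun y).obj (pG ι L N) : Type u)} {m m' : ((stFun y).obj (pM ι N) : Type u)}
    (h : c.Ev φ y g m) (h' : c.Ev φ y g m') : m = m' := by
  obtain ⟨W, hW, hc, z, rfl, rfl⟩ := h
  obtain ⟨W', hW', hc', z', he, rfl⟩ := h'
  have hy : y ∈ W ⊓ W' := ⟨hW, hW'⟩
  have he' : gm y (pG ι L N) hy (M1.mres (pG ι L N) inf_le_left z) = gm y (pG ι L N) hy (M1.mres (pG ι L N) inf_le_right z') := by
    rw [gm_res, gm_res]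
    exact he.symm
  obtain ⟨V, hV, hVW, e⟩ := exists_res_eq y hy he'
  rw [M1.mres_mres, M1.mres_mres] at e
  refine (gm_ev_res hV hc (hVW.trans inf_le_left) z).symm.trans (Eq.trans ?_ (gm_ev_res hV hc' (hVW.trans inf_le_right) z'))
  exact congrArg (fun q => gm y (pM ι N) hV (hval (M := L) (N := N) q _)) e

variable (c y)

theorem exists_ev (hy : y ∈ c.U) (g : ((stFun y).obj (pG ι L N) : Type u)) : ∃ m : ((stFun y).obj (pM ι N) : Type u), c.Ev φ y g m := by
  obtain ⟨W, hW, hWU, z, rfl⟩ := exists_gm_le y g hy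
  exact ⟨_, ev_sect hW hWU z⟩

variable {c y}

theorem ev_add {g g' : ((stFun y).obj (pG ι L N) : Type u)} {m m' : ((stFun y).obj (pM ι N) : Type u)}
    (h : c.Ev φ y g m) (h' : c.Ev φ y g' m') : c.Ev φ y (g + g') (m + m') := by
  obtain ⟨W, hW, hc, z, rfl, rfl⟩ := h
  obtain ⟨W', hW', hc', z', rfl, rfl⟩ := h'
  have hy : y ∈ W ⊓ W' := ⟨hW, hW'⟩
  let a : Γ(homL L N, ι ⁻¹ᵁ (W ⊓ W')) := M1.mres (pG ι L N) inf_le_left z
  let b : Γ(homL L N, ι ⁻¹ᵁ (W ⊓ W')) := M1.mres (pG ι L N) inf_le_right z'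
  refine ⟨W ⊓ W', hy, inf_le_left.trans hc, a + b, ?_, ?_⟩
  · exact (gm_add y hy (M := (pG ι L N)) a b).trans (congrArg₂ (· + ·) (gm_res y inf_le_left hy (M := pG ι L N) z) (gm_res y inf_le_right hy (M := pG ι L N) z'))
  · rw [FinPres16.hval_add_left]
    exact (gm_add y hy (M := (pM ι N)) _ _).trans (congrArg₂ (· + ·) (gm_ev_res hy hc inf_le_left z)
      (gm_ev_res hy hc' inf_le_right z'))

theorem ev_smul (a : RSt y) {g : ((stFun y).obj (pG ι L N) : Type u)} {m : ((stFun y).obj (pM ι N) : Type u)}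
    (h : c.Ev φ y g m) : c.Ev φ y (a • g) (a • m) := by
  obtain ⟨W, hW, hc, z, rfl, rfl⟩ := h
  obtain ⟨V, hV, q, rfl⟩ := exists_gr y a
  have hy : y ∈ W ⊓ V := ⟨hW, hV⟩
  let z' : Γ(homL L N, ι ⁻¹ᵁ (W ⊓ V)) := M1.mres (pG ι L N) inf_le_left z
  let q' : Γ(P, W ⊓ V) := M1.ores inf_le_right q
  refine ⟨W ⊓ V, hy, inf_le_left.trans hc, ι.app (W ⊓ V) q' • z', ?_, ?_⟩
  · exact (gm_smul y hy (M := (pG ι L N)) q' z').trans (congrArg₂ (· • ·) (gr_res y _ hy q) (gm_res y inf_le_left hy (M := pG ι L N) z))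
  · rw [FinPres16.hval_smul_left]
    exact (gm_smul y hy (M := (pM ι N)) q' _).trans (congrArg₂ (· • ·) (gr_res y _ hy q) (gm_ev_res hy hc inf_le_left z))

variable (hφ : ∀ (U V : X.affineOpens) (h : V.1 ≤ U.1) (e : Fin r → Γ(Omega.conormal ι, U.1)),
    M1.mres L h ((φ U).symm (ιMulti _ r e)) = (φ V).symm (ιMulti _ r fun j => M1.mres (Omega.conormal ι) h (e j)))

include hφ in
theorem eq_zero_of_ev {g : ((stFun y).obj (pG ι L N) : Type u)} (h : c.Ev φ y g (0 : ((stFun y).obj (pM ι N) : Type u))) : g = 0 := by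
  obtain ⟨W, hW, hc, z, rfl, he⟩ := h
  obtain ⟨V, hV, hVW, e⟩ := exists_res_eq y hW (he.trans (gm_zero y (M := (pM ι N)) hW).symm)
  rw [map_zero] at e
  refine (gm_res y hVW hV (M := pG ι L N) z).symm.trans ?_
  refine (congrArg (gm y (pG ι L N) hV) ?_).trans (gm_zero y hV)
  refine sect_eq_zero_of_hval (c.isBas_wedge φ hφ) (c.le_pre (hVW.trans hc)) ?_
  rw [← M1.mres_mres L (c.le_pre hc) (show ι ⁻¹ᵁ V ≤ ι ⁻¹ᵁ W from fun _ hx => hVW hx)]
  exact (hval_mres _ z _).trans e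

include hφ in
theorem exists_of_ev (hy : y ∈ c.U) (m : ((stFun y).obj (pM ι N) : Type u)) :
    ∃ g : ((stFun y).obj (pG ι L N) : Type u), c.Ev φ y g m := by
  obtain ⟨W, hW, hWU, t, rfl⟩ := exists_gm_le y m hy
  obtain ⟨z, hz⟩ := exists_hval_eq (c.isBas_wedge φ hφ) (c.le_pre hWU) (show Γ(N, ι ⁻¹ᵁ W) from t)
  exact ⟨gm y (pG ι L N) hW z, W, hW, hWU, z, rfl, congrArg (gm y (pM ι N) hW) hz⟩

include hφ in
theorem ev_change {c' : Chart ι r} (hy : y ∈ c.U) (hy' : y ∈ c'.U) {C : Matrix (Fin r) (Fin r) (RSt y)}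
    (hC : (fun i : Fin r => c'.fhat hy' i) = C *ᵥ (fun j : Fin r => c.fhat hy j))
    {g : ((stFun y).obj (pG ι L N) : Type u)} {m : ((stFun y).obj (pM ι N) : Type u)} (h : c.Ev φ y g m) :
    c'.Ev φ y g (C.det • m) := by
  obtain ⟨W₀, hW₀, hc, z, rfl, rfl⟩ := h
  obtain ⟨W, hW, hU, hU', d, hd, he⟩ := exists_wedge_eq φ hφ c c' hy hy' C hC
  have hyV : y ∈ W₀ ⊓ W := ⟨hW₀, hW⟩
  let z' : Γ(homL L N, ι ⁻¹ᵁ (W₀ ⊓ W)) := M1.mres (pG ι L N) inf_le_left z
  refine ⟨W₀ ⊓ W, hyV, inf_le_right.trans hU', z', gm_res y inf_le_left hyV (M := pG ι L N) z, ?_⟩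
  have hp : ι ⁻¹ᵁ (W₀ ⊓ W) ≤ ι ⁻¹ᵁ W := fun _ hx => hx.2
  have e1 : M1.mres L (c'.le_pre (inf_le_right.trans hU')) (c'.wedge φ) =
      ι.app (W₀ ⊓ W) (M1.ores inf_le_right d) • M1.mres L (c.le_pre (inf_le_left.trans hc)) (c.wedge φ) := by
    rw [app_ores, ← M1.mres_mres L (c'.le_pre hU') hp, he, M1.mres_smul, M1.mres_mres]
  rw [e1, FinPres16.hval_smul, ← hd]
  exact (gm_smul y hyV (M := (pM ι N)) _ _).trans (congrArg₂ (· • ·) (gr_res y _ hyV d) (gm_ev_res hyV hc inf_le_left z))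

end Groth.Agent.FundIso12
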