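import Groth.Agent.Lib.FundIso12.Unit
import Groth.Agent.Lib.CohFound.ClosedImmPush
import Groth.Agent.Lib.ModM1.Coh
import Mathlib.LinearAlgebra.Isomorphisms

/-!
# Homomorphisms out of the structure sheaf of a closed subscheme are the killed elements
-/

set_option autoImplicit false
set_option linter.style.haveILetI false
set_option linter.unusedSectionVars false
set_option backward.isDefEq.respectTransparency false
set_option backward.isDefEq.respectTransparency.types false
set_option maxHeartbeats 400000

universe u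

open CategoryTheory CategoryTheory.Limits AlgebraicGeometry Opposite TopologicalSpace

noncomputable section

namespace Groth.Agent.FundIso12

open Groth.Agent.CohMop (pt nb stFun modCmp ringCmp SH.evLin)
open Groth.Agent.FinPres16 (hval)

theorem isFP_opush {X P : Scheme.{u}} [IsLocallyNoetherian P] (ι : X ⟶ P) [IsClosedImmersion ι] :
    SheafOfModules.IsFinitePresentation (R := ModSite.ringSh P.sheaf) (opush ι) := by
  haveI : IsLocallyNoetherian X := LocallyOfFiniteType.isLocallyNoetherian ι
  exact M1.isFP_of_isCoh (CohFound.isCoh_push_closedImm ι (M1.isCoh_structureModule X))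

variable {X P : Scheme.{u}} (ι : X ⟶ P) [ModSite.HasSheafHom (O := P.sheaf) (opush ι)]

/-- Evaluation at one. -/
def evOneApp (N : P.Modules) : ((ModSite.sheafHom (O := P.sheaf) (opush ι)).obj N : P.Modules) ⟶ N :=
  ⟨{ app := fun V => ModuleCat.ofHom
      (X := ((ModSite.sheafHom (O := P.sheaf) (opush ι)).obj N).val.obj V) (Y := N.val.obj V)
      { toFun := fun z => hval (M := opush ι) (N := N) (V := V.unop) z (oneSec ι V.unop)
        map_add' := fun z z' => FinPres16.hval_add_left z z' _
        map_smul' := fun r z => FinPres16.hval_smul_left z r _ }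
     naturality := fun {V W} g => ModuleCat.hom_ext (LinearMap.ext fun z => by
       show hval (M := opush ι) (N := N)
          (ModFlat16.smap ((ModSite.sheafHom (O := P.sheaf) (opush ι)).obj N) g.unop z) (oneSec ι W.unop) =
            ModFlat16.smap N g.unop (hval (M := opush ι) (N := N) z (oneSec ι V.unop))
       rw [← oneSec_res ι g.unop.le]
       exact FinPres16.hval_smap g.unop z _) }⟩

theorem evOneApp_app (N : P.Modules) {V : P.Opens}
    (z : Γ((ModSite.sheafHom (O := P.sheaf) (opush ι)).obj N, V)) :
    Scheme.Modules.Hom.app (evOneApp ι N) V z = hval (M := opush ι) (N := N) z (oneSec ι V) := rfl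

/-- Evaluation at one, natural. -/
def evOne : (ModSite.sheafHom (O := P.sheaf) (opush ι) : P.Modules ⥤ P.Modules) ⟶ 𝟭 P.Modules where
  app N := evOneApp ι N
  naturality {N N'} f := SheafOfModules.hom_ext (PresheafOfModules.hom_ext fun V =>
    ModuleCat.hom_ext (LinearMap.ext fun z => FinPres16.hval_map f z _))

variable (y : P)

theorem evOne_stalk (N : P.Modules) (a : ((stFun y).obj ((ModSite.sheafHom (O := P.sheaf) (opush ι)).obj N) : Type u)) :
    ((stFun y).map ((evOne ι).app N)).hom a =
      CohMop.SH.evLin (M := opush ι) (N := N) (x := y) a (oneSt ι y) := by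
  obtain ⟨V, hV, z, rfl⟩ := exists_gm y a
  rw [oneSt_eq ι y hV, map_gm]
  exact (CohMop.SH.ev_germ (M := opush ι) (N := N) hV z (oneSec ι V)).symm

variable [IsClosedImmersion ι]

theorem surjective_oneSt :
    Function.Surjective (LinearMap.toSpanSingleton (RSt y) ((stFun y).obj (opush ι)) (oneSt ι y)) := by
  intro m
  obtain ⟨V, hV, t, rfl⟩ := exists_gm y m
  obtain ⟨W, hW, hyW, hWV⟩ := exists_isAffineOpen_mem_and_subset (U := V) hV
  obtain ⟨-, hs⟩ := CI2.surjective_app_of_closed ι hW
  obtain ⟨r, hr⟩ := hs (M1.mres (opush ι) hWV t)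
  refine ⟨gr y hyW r, ?_⟩
  rw [LinearMap.toSpanSingleton_apply, oneSt_eq ι y hyW, ← gm_smul, smul_oneSec, ← gm_res y hWV hyW t]
  exact congrArg (gm y _ hyW) hr

variable [IsLocallyNoetherian P]

theorem injective_evOne (N : P.Modules) : Function.Injective ((stFun y).map ((evOne ι).app N)).hom := by
  haveI := isFP_opush ι
  refine (injective_iff_map_eq_zero _).2 fun a ha => ?_
  refine CohMop.SH.evLin_injective (M := opush ι) (N := N) (x := y) ?_
  rw [map_zero]
  refine LinearMap.ext fun m => ?_
  obtain ⟨r, rfl⟩ := surjective_oneSt ι y m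
  rw [LinearMap.toSpanSingleton_apply, map_smul, ← evOne_stalk, ha, smul_zero, LinearMap.zero_apply]

theorem evOne_killed (N : P.Modules) (a : ((stFun y).obj ((ModSite.sheafHom (O := P.sheaf) (opush ι)).obj N) : Type u))
    {r : RSt y} (hr : r ∈ Jst ι y) : r • ((stFun y).map ((evOne ι).app N)).hom a = 0 := by
  rw [evOne_stalk]
  refine (map_smul (CohMop.SH.evLin (M := opush ι) (N := N) (x := y) a) r (oneSt ι y)).symm.trans ?_
  rw [(mem_Jst ι y).1 hr, map_zero]

theorem exists_evOne (N : P.Modules) {n : ((stFun y).obj N : Type u)} (hn : ∀ r ∈ Jst ι y, r • n = 0) :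
    ∃ a, ((stFun y).map ((evOne ι).app N)).hom a = n := by
  haveI := isFP_opush ι
  let p := LinearMap.toSpanSingleton (RSt y) ((stFun y).obj (opush ι)) (oneSt ι y)
  let φ := (Submodule.liftQ (LinearMap.ker p) (LinearMap.toSpanSingleton (RSt y) ((stFun y).obj N) n)
    (fun r hr => by rw [LinearMap.mem_ker, LinearMap.toSpanSingleton_apply]; exact hn r hr)).comp
      (p.quotKerEquivOfSurjective (surjective_oneSt ι y)).symm.toLinearMap
  obtain ⟨a, ha⟩ := CohMop.SH.evLin_surjective (M := opush ι) (N := N) (x := y) φ
  refine ⟨a, ?_⟩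
  rw [evOne_stalk, ha]
  refine (congrArg (Submodule.liftQ (LinearMap.ker p) (LinearMap.toSpanSingleton (RSt y) ((stFun y).obj N) n)
    (fun r hr => by rw [LinearMap.mem_ker, LinearMap.toSpanSingleton_apply]; exact hn r hr))
    (show (p.quotKerEquivOfSurjective (surjective_oneSt ι y)).symm (oneSt ι y) =
      (Submodule.Quotient.mk 1 : RSt y ⧸ LinearMap.ker p) from (LinearEquiv.symm_apply_eq _).2 (by
        rw [LinearMap.quotKerEquivOfSurjective_apply_mk, LinearMap.toSpanSingleton_apply, one_smul]))).trans ?_
  rw [Submodule.liftQ_apply, LinearMap.toSpanSingleton_apply, one_smul]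

end Groth.Agent.FundIso12
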