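import Groth.Agent.Lib.FundIso12.Map

/-!
# The fundamental local isomorphism
-/

set_option autoImplicit false
set_option linter.style.haveILetI false
set_option linter.unusedSectionVars false
set_option backward.isDefEq.respectTransparency false
set_option backward.isDefEq.respectTransparency.types false
set_option maxHeartbeats 800000

universe u

open CategoryTheory CategoryTheory.Limits AlgebraicGeometry Opposite TopologicalSpace exteriorPower Matrix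

noncomputable section

namespace Groth.Agent.FundIso12

open Groth.Agent.CohMop (pt nb stFun modCmp ringCmp)
open Groth.Agent.FinPres16 (hval)

variable {X P : Scheme.{u}} {ι : X ⟶ P} [IsClosedImmersion ι] [IsLocallyNoetherian P] {r : ℕ} {L : X.Modules}
  [ModSite.HasSheafHom (O := X.sheaf) L] [ModSite.HasSheafHom (O := P.sheaf) (opush ι)]
  {F : P.Modules} (I : InjectiveResolution F)

theorem exists_killed_nhd (c : Chart ι r) {i q : ℕ} {x : P} {W : P.Opens} (hx : x ∈ W) (hW : W ≤ c.U)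
    (t : Γ(I.cocomplex.X q, W)) (hk : Killed (Mq I x) (c.fhat (hW hx)) i (gm x _ hx t)) :
    ∃ (V : P.Opens) (_ : x ∈ V) (hVW : V ≤ W), ∀ (y : P) (hy : y ∈ V),
      Killed (Mq I y) (c.fhat (hW (hVW hy))) i (gm y _ (hVW hy) t) := by
  induction i with
  | zero => exact ⟨W, hx, le_rfl, fun y hy j hj => absurd hj (by omega)⟩
  | succ i ih =>
    obtain ⟨V, hV, hVW, h⟩ := ih (hk.mono (by omega))
    have h0 : gm x (I.cocomplex.X q) hV (M1.ores (hVW.trans hW) (c.f i) • M1.mres (I.cocomplex.X q) hVW t) =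
        gm x (I.cocomplex.X q) hV 0 := by
      rw [gm_smul, gr_res, gm_res, gm_zero]
      exact hk i (Nat.lt_succ_self i)
    obtain ⟨V', hV', hV'V, e⟩ := exists_res_eq x hV h0
    refine ⟨V', hV', hV'V.trans hVW, fun y hy => (h y (hV'V hy)).succ ?_⟩
    have h1 := congrArg (gm y (I.cocomplex.X q) hy) e
    rw [gm_res, gm_res, gm_smul, gr_res, gm_res, gm_zero] at h1
    exact h1

theorem exists_link_nhd (c : Chart ι r) {x : P} {W : P.Opens} (hx : x ∈ W) (hW : W ≤ c.U) (s : Γ(F, W)) :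
    ∀ (i : ℕ) (z : Mq I x i), Link (Mq I x) (dq I x) (c.fhat (hW hx)) i z (aug I x (gm x F hx s)) →
      ∃ (V : P.Opens) (hV : x ∈ V) (hVW : V ≤ W) (zc : Γ(I.cocomplex.X i, V)), gm x _ hV zc = z ∧
        ∀ (y : P) (hy : y ∈ V), Link (Mq I y) (dq I y) (c.fhat (hW (hVW hy))) i (gm y _ hy zc)
          (aug I y (gm y F (hVW hy) s))
  | 0, z, h => by
    refine ⟨W, hx, le_rfl, (I.ι.f 0).app W s, ?_, fun y hy => ?_⟩
    · exact (map_gm x (I.ι.f 0) hx s).symm.trans (show z = _ from h).symm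
    · exact (map_gm y (I.ι.f 0) hy s).symm
  | i + 1, z, ⟨z', t, hl, ht, htz, hd⟩ => by
    obtain ⟨V, hV, hVW, zc, rfl, hzc⟩ := exists_link_nhd c hx hW s i z' hl
    obtain ⟨V₁, hV₁, hV₁V, tc, rfl⟩ := exists_gm_le x t hV
    have h1W : V₁ ≤ W := hV₁V.trans hVW
    obtain ⟨V₂, hV₂, hV₂₁, hk⟩ := exists_killed_nhd I c hV₁ (h1W.trans hW) tc ht
    have h0 : gm x (I.cocomplex.X i) hV₂
        (M1.ores (hV₂₁.trans (h1W.trans hW)) (c.f i) • M1.mres (I.cocomplex.X i) hV₂₁ tc) =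
        gm x (I.cocomplex.X i) hV₂ (M1.mres (I.cocomplex.X i) (hV₂₁.trans hV₁V) zc) := by
      rw [gm_smul, gr_res, gm_res, gm_res]
      exact htz
    obtain ⟨V₃, hV₃, hV₃₂, e⟩ := exists_res_eq x hV₂ h0
    let t3 : Γ(I.cocomplex.X i, V₃) := M1.mres _ (hV₃₂.trans hV₂₁) tc
    refine ⟨V₃, hV₃, (hV₃₂.trans hV₂₁).trans h1W, (I.cocomplex.d i (i + 1)).app V₃ t3, ?_, fun y hy =>
      ⟨gm y _ (hV₁V (hV₂₁ (hV₃₂ hy))) zc, gm y _ (hV₂₁ (hV₃₂ hy)) tc, hzc y _, hk y (hV₃₂ hy), ?_, ?_⟩⟩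
    · rw [← map_gm, gm_res]
      exact hd
    · have h1 := congrArg (gm y (I.cocomplex.X i) hy) e
      rw [gm_res, gm_res, gm_smul, gr_res, gm_res, gm_res] at h1
      exact h1
    · rw [← map_gm, gm_res]
      rfl

variable (φ : ∀ U : X.affineOpens, Γ(L, U.1) ≃ₗ[Γ(X, U.1)] ↥(⋀[Γ(X, U.1)]^r Γ(Omega.conormal ι, U.1)))

theorem exists_tr_sect (c : Chart ι r) (hF : Coh.IsQCoh F) {V : P.Opens} (g : Γ(srcMod ι L F, V)) {x : P}
    (hx : x ∈ V) (hxc : x ∈ c.U) :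
    ∃ (W : P.Opens) (_ : x ∈ W) (hWV : W ≤ V) (hWc : W ≤ c.U) (n : Γ(tgtMod ι r I, W)),
      ∀ (y : P) (hy : y ∈ W), Tr I φ c y (hWc hy) (gm y _ (hWV hy) g) (gm y _ hy n) := by
  let N := (Scheme.Modules.pullback ι).obj F
  have hx₀ : x ∈ V ⊓ c.U := ⟨hx, hxc⟩
  let z₀ : Γ(homL L N, ι ⁻¹ᵁ (V ⊓ c.U)) := M1.mres (srcMod ι L F) inf_le_left g
  let m : Γ(pM ι N, V ⊓ c.U) := hval (M := L) (N := N) z₀ (M1.mres L (c.le_pre inf_le_right) (c.wedge φ))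
  obtain ⟨a, ha⟩ := surjective_etaF ι x hF (gm x (pM ι N) hx₀ m)
  obtain ⟨W₁, hW₁, hW₁₀, s, rfl⟩ := exists_gm_le x a hx₀
  rw [map_gm, ← gm_res x hW₁₀ hW₁ m] at ha
  obtain ⟨W₂, hW₂, hW₂₁, e⟩ := exists_res_eq x hW₁ ha
  have hc2 : W₂ ≤ c.U := (hW₂₁.trans hW₁₀).trans inf_le_right
  let s₂ : Γ(F, W₂) := M1.mres F hW₂₁ s
  have hdiv := div_dq I x (c.seqReg_fhat hxc)
  obtain ⟨z, hz⟩ := exists_link (dq_dq I x) hdiv (dq_aug I x (gm x F hW₂ s₂)) r le_rfl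
  obtain ⟨hk, hd⟩ := link_cocycle (dq_dq I x) (dq_aug I x (gm x F hW₂ s₂)) r hz
  obtain ⟨W₃, hW₃, hW₃₂, zc, rfl, hzc⟩ := exists_link_nhd I c hW₂ hc2 s₂ r z hz
  obtain ⟨W, hW, hWW₃, n, hn⟩ := exists_cls_sect ι I zc hW₃
    (fun a ha => killed_iff.1 hk a ((c.partIdeal_fhat hxc).symm ▸ ha)) hd
  refine ⟨W, hW, (((hWW₃.trans hW₃₂).trans hW₂₁).trans hW₁₀).trans inf_le_left, (hWW₃.trans hW₃₂).trans hc2, n,
    fun y hy => ⟨gm y F (hW₃₂ (hWW₃ hy)) s₂, gm y _ (hWW₃ hy) zc, ?_, hzc y (hWW₃ hy), hn y hy⟩⟩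
  have hy₂ : y ∈ W₂ := hW₃₂ (hWW₃ hy)
  have hy₀ : y ∈ V ⊓ c.U := hW₁₀ (hW₂₁ hy₂)
  have h5 : ((stFun y).map (etaF ι F)).hom (gm y F hy₂ s₂) = gm y (pM ι N) hy₀ m := by
    rw [map_gm, M1.app_mres, e, gm_res, gm_res]
  rw [h5, ← gm_res y (inf_le_left : V ⊓ c.U ≤ V) hy₀ g]
  exact ev_sect hy₀ inf_le_right z₀

/-- The fundamental local isomorphism, on an injective resolution. -/
theorem nonempty_iso (hι : RegImm.IsRegularImmersionOfCodim RegImm.Kind.regular r ι) (hF : Coh.IsQCoh F)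
    (hL : ExtPow.IsExtPow r (Omega.conormal ι) L) : Nonempty (srcMod ι L F ≅ tgtMod ι r I) := by
  obtain ⟨φ, hφ⟩ := ExtFil4.exists_phi hL
  choose Φ hbij hΦ using exists_stalkMap (I := I) (φ := φ) hF hφ hι
  refine exists_iso_of_stalk (srcMod ι L F) (tgtMod ι r I) Φ hbij fun V g x hx => ?_
  by_cases hxX : x ∈ Set.range ι.base
  · obtain ⟨x₀, hx₀⟩ := hxX
    obtain ⟨c, hc⟩ := exists_chart hι x₀
    rw [hx₀] at hc
    obtain ⟨W, hW, hWV, hWc, n, hn⟩ := exists_tr_sect I φ c hF g hx hc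
    exact ⟨W, hW, hWV, n, fun y hy => hΦ y c (hWc hy) _ _ (hn y hy)⟩
  · let U : P.Opens := ⟨(Set.range ι.base)ᶜ, ι.isClosedEmbedding.isClosed_range.isOpen_compl⟩
    refine ⟨V ⊓ U, ⟨hx, hxX⟩, inf_le_left, 0, fun y hy => ?_⟩
    haveI := subsingleton_tgt (I := I) (r := r) hy.2
    exact Subsingleton.elim _ _

end Groth.Agent.FundIso12
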