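import Groth.Agent.Lib.RegImm26.Noeth
import Groth.Agent.Lib.EmbDef.Regular
import Groth.Agent.Lib.ProjDual12.Trans
import Groth.Agent.S10829
import Mathlib.Topology.Irreducible

/-!
# Local complete intersections in regular schemes are regular immersions
-/

set_option autoImplicit false
set_option linter.style.haveILetI false
set_option linter.unusedSectionVars false
set_option backward.isDefEq.respectTransparency false
set_option backward.isDefEq.respectTransparency.types false
set_option maxHeartbeats 400000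

universe u

open CategoryTheory CategoryTheory.Limits AlgebraicGeometry RingTheory.Sequence

namespace Groth.Agent.FundIso12

variable {X P : Scheme.{u}} (ι : X ⟶ P) [IsClosedImmersion ι]

/-- Generators of the expected number are a regular sequence near the point. -/
theorem exists_regular_chart [IsLocallyNoetherian P] {r : ℕ} (x : X) {U : P.Opens} (hU : IsAffineOpen U)
    (hx : ι x ∈ U) (f : Fin r → Γ(P, U)) (hker : RingHom.ker (ι.app U).hom = Ideal.span (Set.range f))
    [IsRegularLocalRing (P.presheaf.stalk (ι x))]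
    (hdim : ringKrullDim (X.presheaf.stalk x) + (r : WithBot ℕ∞) = ringKrullDim (P.presheaf.stalk (ι x))) :
    ∃ V : P.affineOpens, ι x ∈ V.1 ∧ IsClosedImmersion (ι ∣_ V.1) ∧ ∃ rs : List Γ(P, V.1), rs.length = r ∧
      IsRegular Γ(P, V.1) rs ∧ RingHom.ker (ι.app V.1).hom = Ideal.ofList rs := by
  let fs := List.ofFn f
  let S := P.presheaf.stalk (ι x)
  haveI : LocCoh.IsCohenMacaulayLocalRing S := DepthLib.isCohenMacaulayLocalRing_of_isRegularLocalRing
  haveI : IsClosedImmersion (ι ∣_ U) := IsZariskiLocalAtTarget.restrict (P := @IsClosedImmersion) ‹_› U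
  letI := P.presheaf.algebra_section_stalk (U := U) ⟨ι x, hx⟩
  haveI := hU.isLocalization_stalk ⟨ι x, hx⟩
  let q := (hU.primeIdealOf ⟨ι x, hx⟩).asIdeal
  let xs : List S := fs.map (algebraMap Γ(P, U) S)
  have hxs : RingHom.ker (ι.stalkMap x).hom = Ideal.ofList xs := by
    rw [RegImm26.ker_stalkMap_eq ι x hU hx, hker, ← EmbDef.ofList_ofFn, Ideal.map_ofList]
    rfl
  have hmax : ∀ a ∈ xs, a ∈ IsLocalRing.maximalIdeal S := fun a ha => by
    refine IsLocalRing.le_maximalIdeal (RingHom.ker_ne_top (ι.stalkMap x).hom) ?_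
    rw [hxs]; exact Ideal.subset_span ha
  have hq : ringKrullDim (S ⧸ Ideal.ofList xs) = ringKrullDim (X.presheaf.stalk x) :=
    ringKrullDim_eq_of_ringEquiv ((Ideal.quotEquivOfEq hxs.symm).trans
      (RingHom.quotientKerEquivOfSurjective (SurjectiveOnStalks.stalkMap_surjective (f := ι) x)))
  have hw : IsWeaklyRegular S xs := EmbDef.isWeaklyRegular_of_dim xs hmax (by
    rw [hq, show xs.length = r by simp [xs, fs]]
    exact hdim)
  let e : S ≃ₐ[Γ(P, U)] Localization.AtPrime q := IsLocalization.algEquiv q.primeCompl _ _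
  have hl : IsWeaklyRegular (Localization.AtPrime q) (fs.map (algebraMap Γ(P, U) (Localization.AtPrime q))) := by
    refine (AddEquiv.isWeaklyRegular_congr (e := e.toRingEquiv.toAddEquiv)
      (List.forall₂_map_left_iff.2 (List.forall₂_map_right_iff.2 (List.forall₂_same.2 fun a _ s => ?_)))).1 hw
    show e (algebraMap Γ(P, U) S a * s) = algebraMap Γ(P, U) (Localization.AtPrime q) a * e s
    rw [map_mul, e.commutes]
  haveI : IsNoetherianRing Γ(P, U) := IsLocallyNoetherian.component_noetherian ⟨U, hU⟩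
  obtain ⟨g, hg, hgs⟩ := RegKR4.exists_isWeaklyRegular_away q fs hl
  haveI := hU.isLocalization_basicOpen g
  let a : Localization.Away g ≃ₐ[Γ(P, U)] Γ(P, P.basicOpen g) :=
    IsLocalization.algEquiv (Submonoid.powers g) _ _
  have hxg : ι x ∈ P.basicOpen g := by
    have h2 : hU.primeIdealOf ⟨ι x, hx⟩ ∈ hU.fromSpec ⁻¹ᵁ P.basicOpen g := by
      rw [hU.fromSpec_preimage_basicOpen g]; exact hg
    have h3 : hU.fromSpec (hU.primeIdealOf ⟨ι x, hx⟩) ∈ P.basicOpen g := h2
    rwa [hU.fromSpec_primeIdealOf] at h3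
  refine ⟨⟨P.basicOpen g, hU.basicOpen g⟩, hxg, CI2.isClosedImmersion_restrict_of_le ι (P.basicOpen_le g),
    fs.map (algebraMap Γ(P, U) Γ(P, P.basicOpen g)), by simp [fs], ?_⟩
  have hk : RingHom.ker (ι.app (P.basicOpen g)).hom =
      Ideal.ofList (fs.map (algebraMap Γ(P, U) Γ(P, P.basicOpen g))) := by
    refine (CI2.ker_app_basicOpen ι hU g rfl (P.basicOpen_le g)).trans ?_
    rw [hker, ← EmbDef.ofList_ofFn, Ideal.map_ofList]
    rfl
  refine ⟨⟨(AddEquiv.isWeaklyRegular_congr (e := a.toRingEquiv.toAddEquiv)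
      (List.forall₂_map_left_iff.2 (List.forall₂_map_right_iff.2 (List.forall₂_same.2 fun b _ s => ?_)))).1
        (hgs g dvd_rfl), ?_⟩, hk⟩
  · show a (algebraMap Γ(P, U) (Localization.Away g) b * s) = algebraMap Γ(P, U) _ b * a s
    rw [map_mul, a.commutes]
  · intro htop
    rw [smul_eq_mul, Ideal.mul_top, ← hk] at htop
    haveI : Nontrivial Γ(X, ι ⁻¹ᵁ P.basicOpen g) :=
      (X.presheaf.germ (ι ⁻¹ᵁ P.basicOpen g) x hxg).hom.domain_nontrivial
    exact RingHom.ker_ne_top (ι.app (P.basicOpen g)).hom htop.symm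

/-- A local complete intersection in projective space is a regular immersion. -/
theorem isRegularImmersion_of_lci {k : Type u} [Field k] {N r : ℕ} {X : Scheme.{u}}
    (ι : X ⟶ CohB1.ProjSpace N k) [IsClosedImmersion ι] (hr : r ≤ N)
    (heq : ∀ Z : Set ↥X, Z ∈ irreducibleComponents ↥X → topologicalKrullDim ↥Z = ((N - r : ℕ) : WithBot ℕ∞))
    (hgen : ∀ x : X, ∃ U : (CohB1.ProjSpace N k).affineOpens, ι.base x ∈ (U : (CohB1.ProjSpace N k).Opens) ∧
      ∃ f : Fin r → Γ(CohB1.ProjSpace N k, (U : (CohB1.ProjSpace N k).Opens)),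
        ι.ker.ideal U = Ideal.span (Set.range f)) :
    RegImm.IsRegularImmersionOfCodim RegImm.Kind.regular r ι := by
  haveI : IsLocallyNoetherian (CohB1.ProjSpace N k) := CohFound.ProjNum.isLocallyNoetherian_projSpace N k
  haveI := RegExt.isIntegral_projSpace N k
  haveI := CMReg18.isProper_projSpace k (n := N)
  let p := CohB1.ProjSpace.toSpec N k
  have hP : ∀ Z : Set ↥(CohB1.ProjSpace N k), Z ∈ irreducibleComponents ↥(CohB1.ProjSpace N k) →
      topologicalKrullDim ↥Z = (N : WithBot ℕ∞) := fun Z hZ => by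
    rw [irreducibleComponents_eq_singleton, Set.mem_singleton_iff] at hZ
    subst hZ
    rw [← S10829.result k N]
    exact IsHomeomorph.topologicalKrullDim_eq _ (Homeomorph.Set.univ _).isHomeomorph
  refine ⟨inferInstance, fun x => ?_⟩
  obtain ⟨U, hxU, f, hf⟩ := hgen x
  rw [Scheme.Hom.ker_apply] at hf
  haveI := ES11.regular_stalk k N (ι x)
  haveI : IsLocallyNoetherian X := LocallyOfFiniteType.isLocallyNoetherian ι
  obtain ⟨a, ha⟩ := ProjDual12.exists_dim_stalk_eq ((CohB1.ProjSpace N k).presheaf.stalk (ι x))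
  obtain ⟨b, hb⟩ := ProjDual12.exists_dim_stalk_eq (X.presheaf.stalk x)
  have h1 := ProjDual12.ringKrullDim_stalk_add_sdim_of_pure p hP ha
  have h2 := ProjDual12.ringKrullDim_stalk_add_sdim_of_pure (ι ≫ p) heq hb
  rw [VarDim.sdim_comp_of_surjective p ι x] at h2
  refine exists_regular_chart ι x U.2 hxU f hf ?_
  rw [ha, hb]
  norm_cast
  omega

end Groth.Agent.FundIso12
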