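import Groth.Agent.Lib.FundIso12.Ev
import Groth.Agent.Lib.FundIso12.Cx

/-!
# The fundamental local isomorphism on stalks
-/

set_option autoImplicit false
set_option linter.style.haveILetI false
set_option linter.unusedSectionVars false
set_option backward.isDefEq.respectTransparency false
set_option backward.isDefEq.respectTransparency.types false
set_option maxHeartbeats 800000

universe u

open CategoryTheory CategoryTheory.Limits AlgebraicGeometry Opposite TopologicalSpace exteriorPower Matrix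

noncomputable section

namespace Groth.Agent.FundIso12

open Groth.Agent.CohMop (pt nb stFun modCmp ringCmp)
open Groth.Agent.FinPres16 (hval)

variable {X P : Scheme.{u}} {ι : X ⟶ P} [IsClosedImmersion ι] [IsLocallyNoetherian P] {r : ℕ} {L : X.Modules}
  [ModSite.HasSheafHom (O := X.sheaf) L] [ModSite.HasSheafHom (O := P.sheaf) (opush ι)]
  {F : P.Modules} (I : InjectiveResolution F)
  (φ : ∀ U : X.affineOpens, Γ(L, U.1) ≃ₗ[Γ(X, U.1)] ↥(⋀[Γ(X, U.1)]^r Γ(Omega.conormal ι, U.1)))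

/-- The source. -/
abbrev srcMod (ι : X ⟶ P) (L : X.Modules) [ModSite.HasSheafHom (O := X.sheaf) L] (F : P.Modules) : P.Modules :=
  pG ι L ((Scheme.Modules.pullback ι).obj F)

/-- The target. -/
abbrev tgtMod (ι : X ⟶ P) [ModSite.HasSheafHom (O := P.sheaf) (opush ι)] (r : ℕ) {F : P.Modules}
    (I : InjectiveResolution F) : P.Modules := (kCx ι I).homology r

/-- The graph of the map on stalks. -/
def Tr (c : Chart ι r) (y : P) (hy : y ∈ c.U) (g : ((stFun y).obj (srcMod ι L F) : Type u))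
    (t : ((stFun y).obj (tgtMod ι r I) : Type u)) : Prop :=
  ∃ (s : ((stFun y).obj F : Type u)) (z : Mq I y r),
    c.Ev φ y g (((stFun y).map (etaF ι F)).hom s) ∧
      Link (Mq I y) (dq I y) (c.fhat hy) r z (aug I y s) ∧ Cls ι I y r z t

variable {I φ} {c : Chart ι r} {y : P} {hy : y ∈ c.U}

theorem tr_add {g g' : ((stFun y).obj (srcMod ι L F) : Type u)} {t t' : ((stFun y).obj (tgtMod ι r I) : Type u)}
    (h : Tr I φ c y hy g t) (h' : Tr I φ c y hy g' t') : Tr I φ c y hy (g + g') (t + t') := by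
  obtain ⟨s, z, h1, h2, h3⟩ := h
  obtain ⟨s', z', h1', h2', h3'⟩ := h'
  refine ⟨s + s', z + z', ?_, ?_, cls_add ι I y h3 h3'⟩
  · rw [map_add]; exact ev_add h1 h1'
  · rw [map_add]; exact link_add r h2 h2'

theorem tr_smul (a : RSt y) {g : ((stFun y).obj (srcMod ι L F) : Type u)} {t : ((stFun y).obj (tgtMod ι r I) : Type u)}
    (h : Tr I φ c y hy g t) : Tr I φ c y hy (a • g) (a • t) := by
  obtain ⟨s, z, h1, h2, h3⟩ := h
  refine ⟨a • s, a • z, ?_, ?_, cls_smul ι I y a h3⟩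
  · rw [map_smul]; exact ev_smul a h1
  · rw [map_smul]; exact link_smul a r h2

variable (hF : Coh.IsQCoh F)

theorem aug_mem_smul {s : ((stFun y).obj F : Type u)}
    (hs : s ∈ Jst ι y • (⊤ : Submodule (RSt y) ((stFun y).obj F))) {f : ℕ → RSt y}
    (hf : partIdeal f r = Jst ι y) : aug I y s ∈ partIdeal f r • cocycles (M := Mq I y) (d := dq I y) := by
  refine Submodule.smul_induction_on hs (fun a ha b _ => ?_) (fun a b ha hb => ?_)
  · rw [map_smul]
    exact Submodule.smul_mem_smul (hf.symm ▸ ha) (LinearMap.mem_ker.2 (dq_aug I y b))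
  · rw [map_add]; exact Submodule.add_mem _ ha hb

include hF in
theorem tr_unique {g : ((stFun y).obj (srcMod ι L F) : Type u)} {t t' : ((stFun y).obj (tgtMod ι r I) : Type u)}
    (h : Tr I φ c y hy g t) (h' : Tr I φ c y hy g t') : t = t' := by
  obtain ⟨s, z, h1, h2, h3⟩ := h
  obtain ⟨s', z', h1', h2', h3'⟩ := h'
  have hs : s - s' ∈ Jst ι y • (⊤ : Submodule (RSt y) ((stFun y).obj F)) := by
    rw [← etaF_eq_zero_iff ι y hF, map_sub, sub_eq_zero]
    exact ev_unique h1 h1'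
  have hdiv := div_dq I y (c.seqReg_fhat hy)
  have hb : Bd (Mq I y) (dq I y) (c.fhat hy) r (z - z') := by
    refine bd_of_mem_smul (dq_dq I y) hdiv (aug_mem_smul hs (c.partIdeal_fhat hy)) ?_
    rw [map_sub]
    exact link_sub r h2 h2'
  have h4 := cls_add ι I y (cls_of_bd ι I y (c.partIdeal_fhat hy) hb) h3'
  rw [sub_add_cancel, zero_add] at h4
  exact cls_unique ι I y h3 h4

include hF in
theorem exists_tr (hy : y ∈ c.U) (g : ((stFun y).obj (srcMod ι L F) : Type u)) :
    ∃ t, Tr I φ c y hy g t := by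
  obtain ⟨m, hm⟩ := exists_ev (φ := φ) c y hy g
  obtain ⟨s, rfl⟩ := surjective_etaF ι y hF m
  have hdiv := div_dq I y (c.seqReg_fhat hy)
  obtain ⟨z, hz⟩ := exists_link (dq_dq I y) hdiv (dq_aug I y s) r le_rfl
  obtain ⟨hk, hd⟩ := link_cocycle (dq_dq I y) (dq_aug I y s) r hz
  obtain ⟨t, ht⟩ := exists_cls ι I y (fun a ha => killed_iff.1 hk a ((c.partIdeal_fhat hy).symm ▸ ha)) hd
  exact ⟨t, s, z, hm, hz, ht⟩

variable (hφ : ∀ (U V : X.affineOpens) (h : V.1 ≤ U.1) (e : Fin r → Γ(Omega.conormal ι, U.1)),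
    M1.mres L h ((φ U).symm (ιMulti _ r e)) = (φ V).symm (ιMulti _ r fun j => M1.mres (Omega.conormal ι) h (e j)))

include hF hφ in
theorem eq_zero_of_tr {g : ((stFun y).obj (srcMod ι L F) : Type u)} (h : Tr I φ c y hy g 0) : g = 0 := by
  obtain ⟨s, z, h1, h2, h3⟩ := h
  have hdiv := div_dq I y (c.seqReg_fhat hy)
  have hm := mem_smul_of_bd (dq_dq I y) (exact_dq I y) hdiv r le_rfl (dq_aug I y s) h2
    (bd_of_cls ι I y (c.partIdeal_fhat hy) h3)
  obtain ⟨b, hb, he⟩ : ∃ b ∈ Jst ι y • (⊤ : Submodule (RSt y) ((stFun y).obj F)), aug I y b = aug I y s := by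
    rw [c.partIdeal_fhat hy] at hm
    refine Submodule.smul_induction_on
      (p := fun x => ∃ b ∈ Jst ι y • (⊤ : Submodule (RSt y) ((stFun y).obj F)), aug I y b = x) hm
      (fun a ha w hw => ?_) ?_
    · obtain ⟨b, rfl⟩ := exists_aug I y (LinearMap.mem_ker.1 hw)
      exact ⟨a • b, Submodule.smul_mem_smul ha Submodule.mem_top, map_smul _ _ _⟩
    · rintro _ _ ⟨a, ha, rfl⟩ ⟨b, hb, rfl⟩
      exact ⟨a + b, Submodule.add_mem _ ha hb, map_add _ _ _⟩
  rw [injective_aug I y he] at hb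
  rw [(etaF_eq_zero_iff ι y hF).2 hb] at h1
  exact eq_zero_of_ev hφ h1

include hφ in
theorem exists_of_tr (hy : y ∈ c.U) (t : ((stFun y).obj (tgtMod ι r I) : Type u)) :
    ∃ g, Tr I φ c y hy g t := by
  obtain ⟨z, hz⟩ := exists_cls_of ι I y t
  obtain ⟨hk, hd⟩ := cls_cocycle ι I y hz
  have hdiv := div_dq I y (c.seqReg_fhat hy)
  obtain ⟨s', z', hs', hl, hb⟩ := exists_link_eq (dq_dq I y) (exact_dq I y) hdiv r le_rfl z
    (killed_iff.2 fun a ha => hk a (c.partIdeal_fhat hy ▸ ha)) hd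
  obtain ⟨s, rfl⟩ := exists_aug I y hs'
  obtain ⟨g, hg⟩ := exists_of_ev hφ hy (((stFun y).map (etaF ι F)).hom s)
  refine ⟨g, s, z', hg, hl, ?_⟩
  have h1 := cls_add ι I y hz (cls_smul ι I y (-1 : RSt y) (cls_of_bd ι I y (c.partIdeal_fhat hy) hb))
  rwa [smul_zero, add_zero, neg_one_smul, neg_sub, add_sub_cancel] at h1

include hF hφ in
theorem tr_change {c' : Chart ι r} (hy' : y ∈ c'.U) (x : X) (hx : ι.base x = y)
    {g : ((stFun y).obj (srcMod ι L F) : Type u)} {t : ((stFun y).obj (tgtMod ι r I) : Type u)}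
    (h : Tr I φ c y hy g t) : Tr I φ c' y hy' g t := by
  obtain ⟨s, z, h1, h2, h3⟩ := h
  haveI := isNoetherianRing_RSt y
  have hJ : partIdeal (c.fhat hy) r = Jst ι y := c.partIdeal_fhat hy
  obtain ⟨C, hC, hCz⟩ := exists_det (dq_dq I y) (fun f hf => div_dq I y hf) (c.seqReg_fhat hy)
    (c'.seqReg_fhat hy') ((c'.partIdeal_fhat hy').trans hJ.symm)
    (by rw [hJ]; subst hx; exact Jst_le_maximal ι x)
  have hdiv' := div_dq I y (c'.seqReg_fhat hy')
  obtain ⟨z', hz'⟩ := exists_link (dq_dq I y) hdiv' (dq_aug I y s) r le_rfl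
  refine ⟨C.det • s, C.det • z', ?_, ?_, ?_⟩
  · rw [map_smul]; exact ev_change hφ hy hy' hC h1
  · rw [map_smul]; exact link_smul _ r hz'
  · have h4 := cls_add ι I y h3
      (cls_smul ι I y (-1 : RSt y) (cls_of_bd ι I y hJ (hCz _ z z' (dq_aug I y s) h2 hz')))
    rwa [smul_zero, add_zero, neg_one_smul, neg_sub, add_sub_cancel] at h4

omit hy in
theorem subsingleton_tgt (hy : y ∉ Set.range ι.base) :
    Subsingleton ((stFun y).obj (tgtMod ι r I) : Type u) := by
  refine subsingleton_of_forall_eq 0 fun t => ?_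
  obtain ⟨z, hz⟩ := exists_cls_of ι I y t
  have h0 : z = 0 := by
    have h1 := (cls_cocycle ι I y hz).1 1 (by rw [Jst_eq_top ι y hy]; exact Submodule.mem_top)
    rwa [one_smul] at h1
  subst h0
  have h2 := cls_smul ι I y (0 : RSt y) hz
  rw [zero_smul, zero_smul] at h2
  exact cls_unique ι I y hz h2

include hF hφ in
/-- The map on the stalks. -/
theorem exists_stalkMap (hι : RegImm.IsRegularImmersionOfCodim RegImm.Kind.regular r ι) (y : P) :
    ∃ Φ : ((stFun y).obj (srcMod ι L F) : Type u) →ₗ[RSt y] ((stFun y).obj (tgtMod ι r I) : Type u),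
      Function.Bijective Φ ∧ ∀ (c : Chart ι r) (hy : y ∈ c.U) g t, Tr I φ c y hy g t → Φ g = t := by
  by_cases hy : y ∈ Set.range ι.base
  · obtain ⟨x, hx⟩ := hy
    obtain ⟨c, hc⟩ := exists_chart hι x
    rw [hx] at hc
    choose Φ hΦ using fun g => exists_tr (I := I) (φ := φ) (c := c) (y := y) hF hc g
    let Φl : ((stFun y).obj (srcMod ι L F) : Type u) →ₗ[RSt y] ((stFun y).obj (tgtMod ι r I) : Type u) :=
      { toFun := Φ
        map_add' := fun a b => tr_unique hF (hΦ (a + b)) (tr_add (hΦ a) (hΦ b))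
        map_smul' := fun a g => tr_unique hF (hΦ (a • g)) (tr_smul a (hΦ g)) }
    refine ⟨Φl, ⟨(injective_iff_map_eq_zero Φl).2 fun g hg => eq_zero_of_tr (I := I) (hy := hc) hF hφ ?_, fun t => ?_⟩,
      fun c' hy' g t h => tr_unique hF (tr_change hF hφ hy' x hx (hΦ g)) h⟩
    · have := hΦ g; rwa [show Φ g = 0 from hg] at this
    · obtain ⟨g, hg⟩ := exists_of_tr hφ hc t
      exact ⟨g, tr_unique hF (hΦ g) hg⟩
  · haveI := subsingleton_tgt (I := I) (r := r) hy
    haveI := subsingleton_stalk_push ι y (homL L ((Scheme.Modules.pullback ι).obj F)) hy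
    exact ⟨0, ⟨fun a b _ => Subsingleton.elim _ _, fun t => ⟨0, Subsingleton.elim _ _⟩⟩,
      fun _ _ _ _ _ => Subsingleton.elim _ _⟩

end Groth.Agent.FundIso12
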