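import Groth.Agent.Lib.FundIso12.Tuples
import Mathlib.RingTheory.Regular.RegularSequence
import Mathlib.RingTheory.Nakayama
import Mathlib.Algebra.Module.Injective

/-!
# Regular sequences, elementwise
-/

set_option autoImplicit false
set_option linter.unusedSectionVars false

universe u v

open IsLocalRing

namespace Groth.Agent.FundIso12

variable {A : Type u} [CommRing A] {f : ℕ → A} {r : ℕ}

/-- Each member is a nonzerodivisor modulo the earlier ones. -/
def SeqReg (f : ℕ → A) (r : ℕ) : Prop := ∀ i, i < r → ∀ a, f i * a ∈ partIdeal f i → a ∈ partIdeal f i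

theorem partIdeal_succ (f : ℕ → A) (r : ℕ) : partIdeal f (r + 1) = Ideal.span {f r} ⊔ partIdeal f r := by
  rw [partIdeal, partIdeal, ← Ideal.span_union, Set.singleton_union, ← Set.image_insert_eq]
  congr 2
  ext l
  simp only [Set.mem_Iio, Set.mem_insert_iff]
  omega

theorem mem_partIdeal_succ {x : A} {i : ℕ} : x ∈ partIdeal f (i + 1) ↔ ∃ c, x - c * f i ∈ partIdeal f i := by
  rw [partIdeal_succ, Submodule.mem_sup]
  constructor
  · rintro ⟨y, hy, z, hz, rfl⟩
    obtain ⟨c, rfl⟩ := Ideal.mem_span_singleton'.1 hy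
    exact ⟨c, by rwa [add_sub_cancel_left]⟩
  · rintro ⟨c, hc⟩
    exact ⟨_, Ideal.mem_span_singleton'.2 ⟨c, rfl⟩, _, hc, add_sub_cancel _ _⟩

theorem partIdeal_eq_ofList (f : ℕ → A) (r : ℕ) : partIdeal f r = Ideal.ofList ((List.range r).map f) := by
  rw [partIdeal, Ideal.ofList]
  congr 1
  ext x
  simp [Set.mem_image]

theorem SeqReg.congr {g : ℕ → A} (hf : SeqReg f r) (h : ∀ j, j < r → f j = g j) : SeqReg g r := by
  intro i hi a ha
  have he : partIdeal f i = partIdeal g i := partIdeal_congr fun j hj => h j (by omega)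
  rw [← he, ← h i hi] at ha
  exact he ▸ hf i hi a ha

theorem SeqReg.update_last {n : ℕ} (hf : SeqReg f (n + 1)) (u : Aˣ) {a : A} (ha : a ∈ partIdeal f n) :
    SeqReg (Function.update f n ((u : A) * f n + a)) (n + 1) := by
  intro i hi x hx
  have he : partIdeal (Function.update f n ((u : A) * f n + a)) i = partIdeal f i :=
    partIdeal_congr fun j hj => Function.update_of_ne (by omega) _ _
  rw [he] at hx ⊢
  refine hf i hi x ?_
  rcases Nat.lt_succ_iff_lt_or_eq.1 hi with h | rfl
  · rwa [Function.update_of_ne (by omega)] at hx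
  · rw [Function.update_self, add_mul] at hx
    have := (Submodule.add_mem_iff_left _ (Ideal.mul_mem_right x _ ha)).1 hx
    rw [mul_assoc] at this
    have h2 := Ideal.mul_mem_left _ ((u⁻¹ : Aˣ) : A) this
    rwa [← mul_assoc, Units.inv_mul, one_mul] at h2

variable [IsLocalRing A] [IsNoetherianRing A]

theorem SeqReg.swapAt (hf : SeqReg f r) (hm : ∀ j, j < r → f j ∈ maximalIdeal A) {i : ℕ} (hi : i + 2 ≤ r) :
    SeqReg (FundIso12.swapAt f i) r := by
  have hlo : partIdeal (FundIso12.swapAt f i) i = partIdeal f i := partIdeal_congr fun j hj => swapAt_of_lt hj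
  have key : ∀ a, f (i + 1) * a ∈ partIdeal f i → a ∈ partIdeal f i := by
    let K : Ideal A := Submodule.comap (LinearMap.mulLeft A (f (i + 1))) (partIdeal f i)
    have hK : K ≤ partIdeal f i ⊔ maximalIdeal A • K := by
      intro a ha
      have h1 : a ∈ partIdeal f (i + 1) :=
        hf (i + 1) (by omega) a (partIdeal_mono f (Nat.le_succ i) ha)
      obtain ⟨c, hc⟩ := mem_partIdeal_succ.1 h1
      have hcK : c ∈ K := by
        show f (i + 1) * c ∈ partIdeal f i
        refine hf i (by omega) _ ?_
        have h2 := Submodule.sub_mem _ (show f (i + 1) * a ∈ partIdeal f i from ha)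
          (Ideal.mul_mem_left _ (f (i + 1)) hc)
        rwa [show f (i + 1) * a - f (i + 1) * (a - c * f i) = f i * (f (i + 1) * c) by ring] at h2
      rw [← sub_add_cancel a (c * f i)]
      refine Submodule.add_mem_sup hc ?_
      rw [mul_comm]
      exact Submodule.smul_mem_smul (hm i (by omega)) hcK
    exact fun a ha => Submodule.le_of_le_smul_of_le_jacobson_bot (IsNoetherian.noetherian K)
      (maximalIdeal_le_jacobson _) hK ha
  intro l hl a ha
  rcases Nat.lt_trichotomy l i with h | rfl | h
  · have he : partIdeal (FundIso12.swapAt f i) l = partIdeal f l := partIdeal_congr fun j hj => swapAt_of_lt (by omega)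
    rw [he, swapAt_of_lt h] at ha
    exact he ▸ hf l hl a ha
  · rw [hlo, swapAt_left] at ha
    exact hlo ▸ key a ha
  · rcases Nat.eq_or_lt_of_le (Nat.succ_le_of_lt h) with h' | h'
    · obtain rfl : l = i + 1 := h'.symm
      rw [swapAt_right] at ha
      rw [mem_partIdeal_succ, swapAt_left, hlo] at ha ⊢
      obtain ⟨b, hb⟩ := ha
      have h1 : f (i + 1) * b ∈ partIdeal f (i + 1) := mem_partIdeal_succ.2 ⟨a, by
        have := Submodule.neg_mem _ hb
        rwa [neg_sub, mul_comm b, mul_comm (f i) a] at this⟩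
      obtain ⟨c, hc⟩ := mem_partIdeal_succ.1 (hf (i + 1) (by omega) b h1)
      refine ⟨c, hf i (by omega) _ ?_⟩
      have h2 := Submodule.add_mem _ hb (Ideal.mul_mem_left _ (f (i + 1)) hc)
      rwa [show f i * a - b * f (i + 1) + f (i + 1) * (b - c * f i) = f i * (a - c * f (i + 1)) by ring] at h2
    · have he : partIdeal (FundIso12.swapAt f i) l = partIdeal f l :=
        partIdeal_comp_swap (by omega) (by omega)
      rw [he, swapAt_of_gt (by omega)] at ha
      exact he ▸ hf l hl a ha

omit [IsNoetherianRing A] in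
theorem SeqReg.indep (hf : SeqReg f r) (hm : ∀ j, j < r → f j ∈ maximalIdeal A) : Indep f r := by
  induction r with
  | zero => exact fun _ _ j hj => absurd hj (by omega)
  | succ n ih =>
    intro a ha j hj
    rw [Finset.sum_range_succ] at ha
    have h1 : a n ∈ partIdeal f n := by
      refine hf n (by omega) _ ?_
      rw [mul_comm, eq_neg_of_add_eq_zero_right ha]
      exact Submodule.neg_mem _ (mem_partIdeal_iff.2 ⟨a, rfl⟩)
    have hmem : ∀ {x}, x ∈ partIdeal f n → x ∈ maximalIdeal A := fun {x} hx =>
      (Ideal.span_le.2 (by rintro _ ⟨l, hl, rfl⟩; exact hm l (Nat.lt_succ_of_lt hl)) : partIdeal f n ≤ _) hx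
    rcases Nat.lt_succ_iff_lt_or_eq.1 hj with h | rfl
    · obtain ⟨b, hb⟩ := mem_partIdeal_iff.1 h1
      have h2 := ih (fun l hl => hf l (by omega)) (fun l hl => hm l (by omega)) (fun l => a l + b l * f n) (by
        rw [← ha, ← hb, Finset.sum_mul, ← Finset.sum_add_distrib]
        exact Finset.sum_congr rfl fun l _ => by ring) j h
      have h3 := Submodule.sub_mem _ h2 (Ideal.mul_mem_left _ (b j) (hm n (by omega)))
      rwa [add_sub_cancel_right] at h3
    · exact hmem h1

omit [IsLocalRing A] [IsNoetherianRing A] in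
/-- Injective modules are divisible along regular sequences. -/
theorem div_of_injective {M : ℕ → Type v} [∀ q, AddCommGroup (M q)] [∀ q, Module A (M q)]
    (hM : ∀ q, ∀ (N : Ideal A) (g : N →ₗ[A] M q), ∃ g' : A →ₗ[A] M q, ∀ (x : A) (hx : x ∈ N), g' x = g ⟨x, hx⟩)
    (hf : SeqReg f r) : Div M f r := by
  intro i hi q x hx
  let J := partIdeal f i
  let N : Ideal A := Ideal.span {f i} ⊔ J
  have hsplit : ∀ y : N, ∃ c : A, (y : A) - c * f i ∈ J := fun y => by
    obtain ⟨a, ha, b, hb, hab⟩ := Submodule.mem_sup.1 y.2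
    obtain ⟨c, rfl⟩ := Ideal.mem_span_singleton'.1 ha
    exact ⟨c, by rw [← hab, add_sub_cancel_left]; exact hb⟩
  choose c hc using hsplit
  have huniq : ∀ (y : N) (c' : A), (y : A) - c' * f i ∈ J → c y • x = c' • x := fun y c' h' => by
    refine sub_eq_zero.1 ((sub_smul _ _ x).symm.trans (hx.partIdeal_smul (hf i hi _ ?_)))
    have := Submodule.sub_mem _ h' (hc y)
    rwa [show (y : A) - c' * f i - ((y : A) - c y * f i) = f i * (c y - c') by ring] at this
  let g : N →ₗ[A] M q :=
    { toFun := fun y => c y • x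
      map_add' := fun y z => by
        rw [← add_smul]
        refine huniq _ _ ?_
        have := Submodule.add_mem _ (hc y) (hc z)
        rwa [show ((y : A) - c y * f i) + ((z : A) - c z * f i) = ((y + z : N) : A) - (c y + c z) * f i by
          push_cast; ring] at this
      map_smul' := fun a y => by
        rw [RingHom.id_apply, smul_smul]
        refine huniq _ _ ?_
        have := Ideal.mul_mem_left _ a (hc y)
        rwa [show a * ((y : A) - c y * f i) = ((a • y : N) : A) - a * c y * f i by
          simp only [SetLike.val_smul, smul_eq_mul]; ring] at this }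
  obtain ⟨g', hg'⟩ := hM q N g
  refine ⟨g' 1, fun j hj => ?_, ?_⟩
  · have hmem : f j ∈ N := Submodule.mem_sup_right (mem_partIdeal hj)
    rw [← map_smul, smul_eq_mul, mul_one, hg' _ hmem]
    refine (huniq ⟨f j, hmem⟩ 0 ?_).trans (zero_smul A x)
    rw [zero_mul, sub_zero]
    exact mem_partIdeal hj
  · have hmem : f i ∈ N := Submodule.mem_sup_left (Ideal.mem_span_singleton_self _)
    rw [← map_smul, smul_eq_mul, mul_one, hg' _ hmem]
    refine (huniq ⟨f i, hmem⟩ 1 ?_).trans (one_smul A x)
    rw [one_mul, sub_self]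
    exact Submodule.zero_mem _

omit [IsLocalRing A] [IsNoetherianRing A] in
/-- A weakly regular list gives a regular sequence of functions. -/
theorem seqReg_of_isWeaklyRegular (rs : List A) (h : RingTheory.Sequence.IsWeaklyRegular A rs) (f : ℕ → A)
    (hf : ∀ (j : ℕ) (hj : j < rs.length), f j = rs[j]) : SeqReg f rs.length := by
  intro i hi a ha
  have htake : partIdeal f i = Ideal.ofList (rs.take i) • (⊤ : Submodule A A) := by
    rw [smul_eq_mul, Ideal.mul_top, partIdeal_eq_ofList]
    congr 1
    refine List.ext_getElem (by simp; omega) fun l h1 h2 => ?_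
    simp only [List.getElem_map, List.getElem_range, List.getElem_take]
    exact hf l (by simp at h1; omega)
  have hr := h.regular_mod_prev i hi
  rw [htake] at ha ⊢
  refine (Submodule.Quotient.mk_eq_zero _).1 (hr ?_)
  show rs[i] • Submodule.Quotient.mk a = rs[i] • 0
  rw [smul_zero, ← Submodule.Quotient.mk_smul, Submodule.Quotient.mk_eq_zero, smul_eq_mul, ← hf i hi]
  exact ha

end Groth.Agent.FundIso12
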