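import Groth.Agent.Lib.CohMop.StalkExt
import Groth.Agent.Lib.RefHull26.Glue
import Mathlib.Algebra.Homology.ShortComplex.ModuleCat
import Mathlib.Algebra.Homology.ShortComplex.Exact
import Mathlib.Algebra.Homology.ShortComplex.PreservesHomology

/-!
# Germs at a point, morphisms from stalk maps, classes of cocycles
-/

set_option autoImplicit false
set_option linter.style.haveILetI false
set_option linter.unusedSectionVars false
set_option backward.isDefEq.respectTransparency false
set_option backward.isDefEq.respectTransparency.types false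

universe u

open CategoryTheory CategoryTheory.Limits AlgebraicGeometry Opposite TopologicalSpace

noncomputable section

namespace Groth.Agent.FundIso12

open Groth.Agent.CohMop (pt nb stFun modCmp ringCmp)

variable {X : Scheme.{u}} (y : X)

/-- The local ring at the point of the site. -/
abbrev RSt : Type u := ModSite.stalkRing (pt y) X.sheaf

/-- The germ of a section. -/
def gm (M : X.Modules) {V : X.Opens} (hy : y ∈ V) (s : Γ(M, V)) : ((stFun y).obj M : Type u) :=
  ModSite.germ (pt y) (O := X.sheaf) M V (nb y hy) s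

/-- The germ of a function. -/
def gr {V : X.Opens} (hy : y ∈ V) (r : Γ(X, V)) : RSt y :=
  ModSite.germRing (pt y) (O := X.sheaf) V (nb y hy) r

variable {M N : X.Modules} {V W : X.Opens}

theorem modCmp_gm (hy : y ∈ V) (s : Γ(M, V)) : modCmp y M (M.presheaf.germ V y hy s) = gm y M hy s :=
  CohMop.modCmp_germ y M hy s

theorem ringCmp_gr (hy : y ∈ V) (r : Γ(X, V)) : ringCmp y (X.presheaf.germ V y hy r) = gr y hy r :=
  CohMop.ringCmp_germ y hy r

theorem gm_res (h : W ≤ V) (hy : y ∈ W) (s : Γ(M, V)) : gm y M hy (M1.mres M h s) = gm y M (h hy) s := by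
  rw [← modCmp_gm, ← modCmp_gm, TopCat.Presheaf.germ_res_apply]

theorem gr_res (h : W ≤ V) (hy : y ∈ W) (r : Γ(X, V)) : gr y hy (M1.ores h r) = gr y (h hy) r := by
  rw [← ringCmp_gr, ← ringCmp_gr]
  exact congrArg _ (X.presheaf.germ_res_apply (homOfLE h) y hy r)

theorem gm_add (hy : y ∈ V) (s t : Γ(M, V)) : gm y M hy (s + t) = gm y M hy s + gm y M hy t := by
  rw [← modCmp_gm, ← modCmp_gm, ← modCmp_gm, map_add, map_add]

theorem gm_zero (hy : y ∈ V) : gm y M hy 0 = 0 := by
  rw [← modCmp_gm, map_zero, map_zero]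

theorem gm_sub (hy : y ∈ V) (s t : Γ(M, V)) : gm y M hy (s - t) = gm y M hy s - gm y M hy t := by
  rw [← modCmp_gm, ← modCmp_gm, ← modCmp_gm, map_sub, map_sub]

theorem gr_sum {ι : Type*} [Fintype ι] (hy : y ∈ V) (r : ι → Γ(X, V)) :
    gr y hy (∑ i, r i) = ∑ i, gr y hy (r i) := by
  simp only [← ringCmp_gr, map_sum]

theorem gr_mul (hy : y ∈ V) (r r' : Γ(X, V)) : gr y hy (r * r') = gr y hy r * gr y hy r' := by
  simp only [← ringCmp_gr, map_mul]

theorem gm_smul (hy : y ∈ V) (r : Γ(X, V)) (s : Γ(M, V)) : gm y M hy (r • s) = gr y hy r • gm y M hy s :=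
  ModSite.germ_smul (pt y) (O := X.sheaf) M V (nb y hy) r s

theorem map_gm (φ : M ⟶ N) (hy : y ∈ V) (s : Γ(M, V)) :
    ((stFun y).map φ).hom (gm y M hy s) = gm y N hy (φ.app V s) :=
  ModFlat16.stalkMap_germ φ y (nb y hy) s

theorem exists_gm (a : ((stFun y).obj M : Type u)) :
    ∃ (V : X.Opens) (hy : y ∈ V) (s : Γ(M, V)), gm y M hy s = a := by
  obtain ⟨V, hV, s, hs⟩ := TopCat.Presheaf.exists_germ_eq M.presheaf ((modCmp y M).symm a)
  exact ⟨V, hV, s, by rw [← modCmp_gm, hs]; exact (modCmp y M).apply_symm_apply a⟩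

theorem exists_gm_le (a : ((stFun y).obj M : Type u)) {V : X.Opens} (hV : y ∈ V) :
    ∃ (W : X.Opens) (hy : y ∈ W) (_ : W ≤ V) (s : Γ(M, W)), gm y M hy s = a := by
  obtain ⟨U, hU, s, rfl⟩ := exists_gm y a
  exact ⟨U ⊓ V, ⟨hU, hV⟩, inf_le_right, M1.mres M inf_le_left s, gm_res y inf_le_left (show y ∈ U ⊓ V from ⟨hU, hV⟩) s⟩

theorem exists_gr (a : RSt y) : ∃ (V : X.Opens) (hy : y ∈ V) (r : Γ(X, V)), gr y hy r = a := by
  obtain ⟨V, hV, r, hr⟩ := X.presheaf.exists_germ_eq ((ringCmp y).symm a)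
  exact ⟨V, hV, r, by rw [← ringCmp_gr, hr]; exact (ringCmp y).apply_symm_apply a⟩

theorem exists_res_eq (hy : y ∈ V) {s t : Γ(M, V)} (h : gm y M hy s = gm y M hy t) :
    ∃ (W : X.Opens) (_ : y ∈ W) (hWV : W ≤ V), M1.mres M hWV s = M1.mres M hWV t := by
  rw [← modCmp_gm, ← modCmp_gm] at h
  obtain ⟨W, hW, i₁, i₂, e⟩ := TopCat.Presheaf.germ_eq M.presheaf y hy hy s t ((modCmp y M).injective h)
  exact ⟨W, hW, i₁.le, e⟩

/-- A continuous family of bijective stalk maps is an isomorphism. -/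
theorem exists_iso_of_stalk (M N : X.Modules)
    (φ : ∀ y : X, ((stFun y).obj M : Type u) →ₗ[RSt y] ((stFun y).obj N : Type u))
    (hb : ∀ y, Function.Bijective (φ y))
    (hc : ∀ (V : X.Opens) (m : Γ(M, V)) (x : X) (hx : x ∈ V), ∃ (W : X.Opens) (_ : x ∈ W) (hWV : W ≤ V)
      (n : Γ(N, W)), ∀ (y : X) (hy : y ∈ W), φ y (gm y M (hWV hy) m) = gm y N hy n) :
    Nonempty (M ≅ N) := by
  let f : ∀ y : X, RefHull.StalkHom M N y := fun y =>
    { toFun := fun v => (modCmp y N).symm (φ y (modCmp y M v))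
      map_add' := fun a b => by
        refine Eq.trans (congrArg (modCmp y N).symm ?_) (map_add (modCmp y N).symm _ _)
        exact (congrArg (φ y) (map_add (modCmp y M) a b)).trans (map_add (φ y) _ _)
      map_smul' := fun r v => (modCmp y N).injective (by
        refine ((modCmp y N).apply_symm_apply _).trans ?_
        refine ((congrArg (φ y) (CohMop.modCmp_smul y M r v)).trans (map_smul (φ y) _ _)).trans ?_
        exact ((CohMop.modCmp_smul y N r _).trans (congrArg _ ((modCmp y N).apply_symm_apply _))).symm) }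
  obtain ⟨ψ, hψ⟩ := RH26.exists_hom_of_stalkFamily M N f fun V m x hx => by
    obtain ⟨W, hW, hWV, n, hn⟩ := hc V m x hx
    refine ⟨W, hW, hWV, n, fun y hy => (modCmp y N).injective ?_⟩
    refine Eq.trans ?_ ((modCmp y N).apply_symm_apply _).symm
    rw [modCmp_gm, modCmp_gm]
    exact (hn y hy).symm
  haveI : IsIso ψ := (RH26.isIso_iff_stalkMapₗ ψ).2 fun x => by
    rw [hψ x]
    exact (modCmp x N).symm.bijective.comp ((hb x).comp (modCmp x M).bijective)
  exact ⟨asIso ψ⟩

/-! ### Classes of cocycles -/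

variable (S : ShortComplex X.Modules)

/-- The class of a cocycle germ. -/
def StCls (c : ((stFun y).obj S.X₂ : Type u)) (t : ((stFun y).obj S.homology : Type u)) : Prop :=
  ∃ z, ((stFun y).map S.iCycles).hom z = c ∧ ((stFun y).map S.homologyπ).hom z = t

theorem injective_stFun_map (φ : M ⟶ N) [Mono φ] : Function.Injective ((stFun y).map φ).hom :=
  (ModuleCat.mono_iff_injective _).1 ((stFun y).map_mono φ)

theorem surjective_stFun_map (φ : M ⟶ N) [Epi φ] : Function.Surjective ((stFun y).map φ).hom :=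
  (ModuleCat.epi_iff_surjective _).1 ((stFun y).map_epi φ)

theorem stCls_unique {c} {t t'} (h : StCls y S c t) (h' : StCls y S c t') : t = t' := by
  obtain ⟨z, hz, rfl⟩ := h
  obtain ⟨z', hz', rfl⟩ := h'
  rw [injective_stFun_map y S.iCycles (hz.trans hz'.symm)]

theorem stCls_add {c c'} {t t'} (h : StCls y S c t) (h' : StCls y S c' t') : StCls y S (c + c') (t + t') := by
  obtain ⟨z, rfl, rfl⟩ := h
  obtain ⟨z', rfl, rfl⟩ := h'
  exact ⟨z + z', map_add _ _ _, map_add _ _ _⟩

theorem stCls_smul (a : RSt y) {c} {t} (h : StCls y S c t) : StCls y S (a • c) (a • t) := by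
  obtain ⟨z, rfl, rfl⟩ := h
  exact ⟨a • z, map_smul _ _ _, map_smul _ _ _⟩

theorem stCls_surjective (t : ((stFun y).obj S.homology : Type u)) : ∃ c, StCls y S c t := by
  obtain ⟨z, rfl⟩ := surjective_stFun_map y S.homologyπ t
  exact ⟨_, z, rfl, rfl⟩

theorem exact_cycles : (ShortComplex.mk S.iCycles S.g S.iCycles_g).Exact :=
  ShortComplex.exact_of_f_is_kernel _ S.cyclesIsKernel

theorem exact_toCycles : (ShortComplex.mk S.toCycles S.homologyπ S.toCycles_comp_homologyπ).Exact :=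
  ShortComplex.exact_of_g_is_cokernel _ S.homologyIsCokernel

theorem stCls_g {c} {t} (h : StCls y S c t) : ((stFun y).map S.g).hom c = 0 := by
  obtain ⟨z, rfl, -⟩ := h
  exact congrArg (fun q => q.hom z) (((stFun y).map_comp _ _).symm.trans
    ((congrArg (stFun y).map S.iCycles_g).trans ((stFun y).map_zero _ _)))

theorem exists_stCls {c : ((stFun y).obj S.X₂ : Type u)} (h : ((stFun y).map S.g).hom c = 0) :
    ∃ t, StCls y S c t := by
  obtain ⟨z, hz⟩ := ((ShortComplex.moduleCat_exact_iff _).1 ((exact_cycles S).map (stFun y))) c h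
  exact ⟨_, z, hz, rfl⟩

theorem stCls_f (w : ((stFun y).obj S.X₁ : Type u)) : StCls y S (((stFun y).map S.f).hom w) 0 := by
  refine ⟨((stFun y).map S.toCycles).hom w, ?_, ?_⟩
  · exact congrArg (fun q => q.hom w) (((stFun y).map_comp _ _).symm.trans (congrArg (stFun y).map S.toCycles_i))
  · exact congrArg (fun q => q.hom w) (((stFun y).map_comp _ _).symm.trans
      ((congrArg (stFun y).map S.toCycles_comp_homologyπ).trans ((stFun y).map_zero _ _)))

theorem exists_of_stCls_zero {c} (h : StCls y S c 0) : ∃ w, ((stFun y).map S.f).hom w = c := by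
  obtain ⟨z, rfl, hz⟩ := h
  obtain ⟨w, hw⟩ := ((ShortComplex.moduleCat_exact_iff _).1 ((exact_toCycles S).map (stFun y))) z hz
  refine ⟨w, ?_⟩
  rw [← hw]
  exact (congrArg (fun q => q.hom w) (((stFun y).map_comp _ _).symm.trans (congrArg (stFun y).map S.toCycles_i))).symm

/-- A cocycle over an open gives a section of homology with the classes as germs. -/
theorem exists_cls_section {V : X.Opens} (c : Γ(S.X₂, V)) (h : S.g.app V c = 0) {x : X} (hx : x ∈ V) :
    ∃ (W : X.Opens) (_ : x ∈ W) (hWV : W ≤ V) (t : Γ(S.homology, W)),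
      ∀ (y : X) (hy : y ∈ W), StCls y S (gm y S.X₂ (hWV hy) c) (gm y S.homology hy t) := by
  obtain ⟨z₀, hz₀⟩ := ((ShortComplex.moduleCat_exact_iff _).1 ((exact_cycles S).map (stFun x))) (gm x S.X₂ hx c)
    ((map_gm x S.g hx c).trans ((congrArg (gm x S.X₃ hx) h).trans (gm_zero x hx)))
  obtain ⟨W₁, hW₁, hW₁V, z, rfl⟩ := exists_gm_le x z₀ hx
  obtain ⟨W, hW, hWW₁, e⟩ := exists_res_eq x hW₁ (s := S.iCycles.app W₁ z) (t := M1.mres S.X₂ hW₁V c)
    ((map_gm x S.iCycles hW₁ z).symm.trans (hz₀.trans (gm_res x hW₁V hW₁ c).symm))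
  refine ⟨W, hW, hWW₁.trans hW₁V, S.homologyπ.app W (M1.mres S.cycles hWW₁ z), fun y hy =>
    ⟨gm y S.cycles hy (M1.mres S.cycles hWW₁ z), ?_, map_gm y S.homologyπ hy _⟩⟩
  rw [gm_res, map_gm, ← gm_res y hWW₁ hy, e, gm_res, gm_res]

end Groth.Agent.FundIso12
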