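import Groth.Agent.Lib.FundIso12.Chain
import Mathlib.Algebra.BigOperators.Fin
import Mathlib.LinearAlgebra.Finsupp.LinearCombination

/-!
# Minimal generating sequences of an ideal in a local ring differ by elementary operations
-/

set_option autoImplicit false

universe u

open IsLocalRing Finset

namespace Groth.Agent.FundIso12

variable {A : Type u} [CommRing A] {f : ℕ → A}

theorem partIdeal_congr {g : ℕ → A} {r : ℕ} (h : ∀ j, j < r → f j = g j) : partIdeal f r = partIdeal g r := by
  unfold partIdeal
  exact congrArg Ideal.span (Set.image_congr fun j hj => h j hj)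

theorem partIdeal_comp_swap {r a b : ℕ} (ha : a < r) (hb : b < r) :
    partIdeal (f ∘ Equiv.swap a b) r = partIdeal f r := by
  unfold partIdeal
  rw [Set.image_comp]
  congr 2
  ext l
  simp only [Set.mem_image, Set.mem_Iio]
  refine ⟨?_, fun hl => ⟨Equiv.swap a b l, ?_, Equiv.swap_apply_self _ _ _⟩⟩
  · rintro ⟨l, hl, rfl⟩
    rw [Equiv.swap_apply_def]
    split_ifs <;> assumption
  · rw [Equiv.swap_apply_def]
    split_ifs <;> assumption

theorem mem_partIdeal_iff {r : ℕ} {x : A} :
    x ∈ partIdeal f r ↔ ∃ a : ℕ → A, ∑ j ∈ range r, a j * f j = x := by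
  constructor
  · intro hx
    induction r generalizing x with
    | zero =>
      have : partIdeal f 0 = ⊥ := Ideal.span_eq_bot.2 fun x ⟨j, hj, _⟩ => absurd hj (by simp)
      rw [this, Ideal.mem_bot] at hx
      exact ⟨0, by simp [hx]⟩
    | succ r ih =>
      have : partIdeal f (r + 1) = Ideal.span {f r} ⊔ partIdeal f r := by
        rw [partIdeal, partIdeal, ← Ideal.span_union, Set.singleton_union, ← Set.image_insert_eq]
        congr 2
        ext l
        simp only [Set.mem_Iio, Set.mem_insert_iff]
        omega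
      rw [this, Submodule.mem_sup] at hx
      obtain ⟨y, hy, z, hz, rfl⟩ := hx
      obtain ⟨c, rfl⟩ := Ideal.mem_span_singleton'.1 hy
      obtain ⟨a, rfl⟩ := ih hz
      refine ⟨Function.update a r c, ?_⟩
      rw [sum_range_succ, Function.update_self, add_comm]
      congr 1
      exact sum_congr rfl fun j hj => by rw [Function.update_of_ne (by simpa using (mem_range.1 hj).ne)]
  · rintro ⟨a, rfl⟩
    exact Submodule.sum_mem _ fun j hj => Ideal.mul_mem_left _ _ (mem_partIdeal (mem_range.1 hj))

/-- No relation with a unit coefficient. -/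
def Indep [IsLocalRing A] (g : ℕ → A) (r : ℕ) : Prop :=
  ∀ a : ℕ → A, ∑ j ∈ range r, a j * g j = 0 → ∀ j, j < r → a j ∈ maximalIdeal A

variable [IsLocalRing A] {J : Ideal A} {r : ℕ} (P : (ℕ → A) → Prop)
  (hswap : ∀ h i, i + 2 ≤ r → partIdeal h r = J → P h → P (swapAt h i))
  (hupd : ∀ (h : ℕ → A) n, n + 1 = r → ∀ (u : Aˣ) (a : A), a ∈ partIdeal h n → partIdeal h r = J → P h →
    P (Function.update h n ((u : A) * h n + a)))
  (hcongr : ∀ h h' : ℕ → A, (∀ j, j < r → h j = h' j) → P h → P h')

include hswap in
theorem apply_comp_swap : ∀ (b a : ℕ) (h : ℕ → A), a ≤ b → b < r → partIdeal h r = J → P h →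
    P (h ∘ Equiv.swap a b) := by
  intro b
  induction b with
  | zero => intro a h ha _ _ hP; rwa [show a = 0 by omega, Equiv.swap_self, Equiv.coe_refl, Function.comp_id]
  | succ b ih =>
    intro a h ha hb hJ hP
    rcases Nat.eq_or_lt_of_le ha with rfl | ha
    · rwa [Equiv.swap_self, Equiv.coe_refl, Function.comp_id]
    rcases Nat.eq_or_lt_of_le (Nat.lt_succ_iff.1 ha) with rfl | ha'
    · exact hswap h a (by omega) hJ hP
    have e : h ∘ Equiv.swap a (b + 1) = ((swapAt h b) ∘ Equiv.swap a b) ∘ Equiv.swap b (b + 1) := by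
      funext l
      simp only [swapAt, Function.comp_apply, Equiv.swap_apply_def]
      congr 1
      split_ifs <;> omega
    rw [e]
    have h1 := hswap h b (by omega) hJ hP
    have hJ1 : partIdeal (swapAt h b) r = J := (partIdeal_comp_swap (by omega) hb).trans hJ
    exact hswap _ b (by omega) ((partIdeal_comp_swap (by omega) (by omega)).trans hJ1)
      (ih a (swapAt h b) (by omega) (by omega) hJ1 h1)

include hswap hupd hcongr in
/-- Two generating sequences of length `r`, one independent, are connected by elementary operations. -/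
theorem apply_of_gens {f g : ℕ → A} (hf : partIdeal f r = J) (hg : partIdeal g r = J) (hgi : Indep g r)
    (hP : P f) : P g := by
  suffices H : ∀ k, k ≤ r → ∃ h, partIdeal h r = J ∧ P h ∧ ∀ j, j < k → h j = g j by
    obtain ⟨h, -, hh, he⟩ := H r le_rfl
    exact hcongr h g he hh
  intro k
  induction k with
  | zero => exact fun _ => ⟨f, hf, hP, fun j hj => absurd hj (by omega)⟩
  | succ k ih =>
    intro hk
    obtain ⟨h, hJ, hh, he⟩ := ih (by omega)
    obtain ⟨a, ha⟩ := mem_partIdeal_iff.1 (show g k ∈ partIdeal h r from hJ ▸ hg ▸ mem_partIdeal (by omega))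
    have hC : ∀ j, ∃ C : ℕ → A, j < r → ∑ l ∈ range r, C l * g l = h j ∧ (j < k → C k = 0) := by
      intro j
      by_cases hj : j < r
      · by_cases hjk : j < k
        · refine ⟨fun l => if l = j then 1 else 0, fun _ => ⟨?_, fun _ => if_neg (by omega)⟩⟩
          simp only [ite_mul, one_mul, zero_mul, sum_ite_eq', mem_range]
          rw [if_pos hj, he j hjk]
        · obtain ⟨C, hC⟩ := mem_partIdeal_iff.1 (show h j ∈ partIdeal g r from hg ▸ hJ ▸ mem_partIdeal hj)
          exact ⟨C, fun _ => ⟨hC, fun h' => absurd h' hjk⟩⟩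
      · exact ⟨0, fun h' => absurd h' hj⟩
    choose C hC using hC
    obtain ⟨j, hkj, hjr, hu⟩ : ∃ j, k ≤ j ∧ j < r ∧ IsUnit (a j) := by
      by_contra hne
      push Not at hne
      have hrel : ∑ l ∈ range r, ((∑ j ∈ range r, a j * C j l) - if l = k then 1 else 0) * g l = 0 := by
        simp only [sub_mul, sum_sub_distrib, sum_mul]
        rw [sum_comm, sum_eq_single_of_mem (f := fun l => (if l = k then (1 : A) else 0) * g l) k (mem_range.2 (by omega))
          (fun l _ hl => by rw [if_neg hl, zero_mul]), if_pos rfl, one_mul, sub_eq_zero]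
        refine Eq.trans (sum_congr rfl fun j hj => ?_) ha
        rw [← (hC j (mem_range.1 hj)).1, mul_sum]
        exact sum_congr rfl fun l _ => mul_assoc _ _ _
      have h1 := hgi _ hrel k (by omega)
      rw [if_pos rfl] at h1
      have h2 : ∑ j ∈ range r, a j * C j k ∈ maximalIdeal A := Submodule.sum_mem _ fun j hj => by
        by_cases hjk : j < k
        · rw [(hC j (mem_range.1 hj)).2 hjk, mul_zero]; exact Submodule.zero_mem _
        · exact Ideal.mul_mem_right _ _ ((mem_maximalIdeal _).2 (hne j (by omega) (mem_range.1 hj)))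
      have h3 := Submodule.sub_mem _ h2 h1
      rw [sub_sub_cancel] at h3
      exact (mem_maximalIdeal _).1 h3 isUnit_one
    obtain ⟨n, rfl⟩ : ∃ n, r = n + 1 := ⟨r - 1, by omega⟩
    let h₁ := h ∘ Equiv.swap j n
    have hJ₁ : partIdeal h₁ (n + 1) = J := (partIdeal_comp_swap hjr (by omega)).trans hJ
    have hP₁ : P h₁ := apply_comp_swap P hswap n j h (by omega) (by omega) hJ hh
    let b := a ∘ Equiv.swap j n
    have hb : ∑ l ∈ range (n + 1), b l * h₁ l = g k := by
      refine Eq.trans ?_ ha
      refine sum_nbij' (Equiv.swap j n) (Equiv.swap j n) ?_ ?_ (fun l _ => Equiv.swap_apply_self _ _ _)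
        (fun l _ => Equiv.swap_apply_self _ _ _) (fun l _ => rfl)
      all_goals
        intro l hl
        simp only [coe_range, Set.mem_Iio, mem_range] at hl ⊢
        rw [Equiv.swap_apply_def]
        split_ifs <;> omega
    rw [sum_range_succ, add_comm] at hb
    have hbn : IsUnit (b n) := by
      show IsUnit (a (Equiv.swap j n n))
      rwa [Equiv.swap_apply_right]
    have hrest : ∑ l ∈ range n, b l * h₁ l ∈ partIdeal h₁ n := mem_partIdeal_iff.2 ⟨b, rfl⟩
    let h₂ := Function.update h₁ n (g k)
    have hP₂ : P h₂ := by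
      have := hupd h₁ n rfl hbn.unit _ hrest hJ₁ hP₁
      rwa [show ((hbn.unit : Aˣ) : A) = b n from rfl, hb] at this
    have hJ₂ : partIdeal h₂ (n + 1) = J := by
      have hlow : ∀ l, l < n → h₂ l ∈ J := fun l hl => by
        show Function.update h₁ n (g k) l ∈ J
        rw [Function.update_of_ne (by omega)]
        exact hJ₁ ▸ mem_partIdeal (show l < n + 1 by omega)
      refine le_antisymm (Ideal.span_le.2 ?_) (hJ₁ ▸ Ideal.span_le.2 ?_)
      · rintro _ ⟨l, hl, rfl⟩
        rcases Nat.lt_succ_iff_lt_or_eq.1 (Set.mem_Iio.1 hl) with h' | rfl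
        · exact hlow l h'
        · show Function.update h₁ l (g k) l ∈ J
          rw [Function.update_self]
          exact hg ▸ mem_partIdeal (by omega)
      · rintro _ ⟨l, hl, rfl⟩
        have hle : ∀ l, l < n → h₁ l ∈ partIdeal h₂ (n + 1) := fun l hl => by
          have := mem_partIdeal (f := h₂) (show l < n + 1 by omega)
          rwa [show h₂ l = h₁ l from Function.update_of_ne (by omega) _ _] at this
        rcases Nat.lt_succ_iff_lt_or_eq.1 (Set.mem_Iio.1 hl) with h' | rfl
        · exact hle l h'
        · have hgk : g k ∈ partIdeal h₂ (l + 1) := by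
            have := mem_partIdeal (f := h₂) (Nat.lt_succ_self l)
            rwa [show h₂ l = g k from Function.update_self _ _ _] at this
          rw [← hb] at hgk
          have hs : ∑ i ∈ range l, b i * h₁ i ∈ partIdeal h₂ (l + 1) :=
            Submodule.sum_mem _ fun i hi => Ideal.mul_mem_left _ _ (hle i (mem_range.1 hi))
          have h4 := (Submodule.add_mem_iff_left _ hs).1 hgk
          rw [← hbn.unit.inv_mul_cancel_left (h₁ l)]
          exact Ideal.mul_mem_left _ _ h4
    refine ⟨h₂ ∘ Equiv.swap k n, (partIdeal_comp_swap (by omega) (by omega)).trans hJ₂,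
      apply_comp_swap P hswap n k h₂ (by omega) (by omega) hJ₂ hP₂, fun l hl => ?_⟩
    show Function.update h₁ n (g k) (Equiv.swap k n l) = g l
    rcases Nat.lt_succ_iff_lt_or_eq.1 hl with h' | rfl
    · rw [Equiv.swap_apply_of_ne_of_ne (by omega) (by omega), Function.update_of_ne (by omega)]
      show h (Equiv.swap j n l) = g l
      rw [Equiv.swap_apply_of_ne_of_ne (by omega) (by omega), he l h']
    · rw [Equiv.swap_apply_left, Function.update_self]

end Groth.Agent.FundIso12
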